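import Cfsg.Agent.SUSmall.Data

/-!
Kernel-decided checks on the explicit data.
-/

set_option autoImplicit false
set_option maxRecDepth 100000

namespace Cfsg.Agent.SUSmall

theorem smallR : (ptsR.all fun v => small 5 v) = true := by decide +kernel
theorem inR_ok : (isSU 5 inR && pres 5 ptsR inR &&
    extra5.all fun r => mm 5 inR ((1, 0, 0), (0, 12, 0), (0, 0, 17)) != mm 5 r inR) = true := by decide +kernel
theorem outR_ok : (isSU 5 outR && escapes 5 ptsR outR) = true := by decide +kernel
theorem ms5_ok : (ms5.all fun m => isSU 5 m && pres 5 ptsR m && normCheck m) = true := by decide +kernel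
theorem frame_ok : frameCheck = true := by decide +kernel
theorem monoR_ok : monoRCheck = true := by decide +kernel

end Cfsg.Agent.SUSmall
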