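import Cfsg.Agent.SUSmall.Torus
import Cfsg.Agent.SUSmall.CheckR

/-!
In `SU₃(5)` the normaliser of an extraspecial group of order `27` is not maximal.
-/

set_option autoImplicit false
set_option maxRecDepth 100000

namespace Cfsg.Agent.SUSmall

open Matrix Cfsg.Geo Cfsg.Agent.PrimeDim
open scoped MatrixGroups

/-- The standard diagonal generator. -/
def genA : M3 := ((1, 0, 0), (0, 12, 0), (0, 0, 17))

/-- The standard permutation generator. -/
def genB : M3 := ((0, 0, 1), (1, 0, 0), (0, 1, 0))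

theorem gen_mem : (extra5.contains genA && extra5.contains genB) = true := by decide +kernel
theorem extra5_nodup : extra5.Nodup := List.nodup_iff_injective_get.2 (by decide +kernel)
theorem extra5_len : extra5.length = 27 := by decide +kernel
theorem extra5_small : (extra5.all fun s => small 5 s.1 && small 5 s.2.1 && small 5 s.2.2) = true := by decide +kernel
theorem back_ok : (ms5.all fun m => extra5.all fun s' => extra5.any fun s => mm 5 s' m == mm 5 m s) = true := by
  decide +kernel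
theorem root_ok : qm 5 12 (qm 5 12 12) = 1 ∧ qm 5 12 12 = 17 := by decide +kernel

variable {F : Type*} [Field F] {σ : F ≃+* F}

theorem mtx_inj {p : ℕ} (sy : Sys p σ) {a b : M3} (ha : (small p a.1 && small p a.2.1 && small p a.2.2) = true)
    (hb : (small p b.1 && small p b.2.1 && small p b.2.2) = true) (h : sy.mtx a = sy.mtx b) : a = b := by
  simp only [small, Bool.and_eq_true, decide_eq_true_eq] at ha hb
  obtain ⟨⟨⟨⟨a00, a01⟩, a02⟩, ⟨a10, a11⟩, a12⟩, ⟨a20, a21⟩, a22⟩ := ha
  obtain ⟨⟨⟨⟨b00, b01⟩, b02⟩, ⟨b10, b11⟩, b12⟩, ⟨b20, b21⟩, b22⟩ := hb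
  obtain ⟨⟨x0, x1, x2⟩, ⟨x3, x4, x5⟩, x6, x7, x8⟩ := a
  obtain ⟨⟨y0, y1, y2⟩, ⟨y3, y4, y5⟩, y6, y7, y8⟩ := b
  have e : ∀ i j, sy.mtx ((x0, x1, x2), (x3, x4, x5), x6, x7, x8) i j =
      sy.mtx ((y0, y1, y2), (y3, y4, y5), y6, y7, y8) i j := fun i j => by rw [h]
  have e00 := e 0 0; have e01 := e 0 1; have e02 := e 0 2; have e10 := e 1 0; have e11 := e 1 1; have e12 := e 1 2
  have e20 := e 2 0; have e21 := e 2 1; have e22 := e 2 2
  simp only [Sys.mtx, Sys.vec, Matrix.of_apply, Matrix.cons_val_zero, Matrix.cons_val_one, Matrix.cons_val] at *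
  rw [sy.ev_inj a00 b00 e00, sy.ev_inj a01 b01 e01, sy.ev_inj a02 b02 e02, sy.ev_inj a10 b10 e10,
    sy.ev_inj a11 b11 e11, sy.ev_inj a12 b12 e12, sy.ev_inj a20 b20 e20, sy.ev_inj a21 b21 e21, sy.ev_inj a22 b22 e22]

theorem three_cycle : ∀ π : Equiv.Perm (Fin 3), π ^ 3 = 1 → π ≠ 1 → (∀ i, π i = i + 1) ∨ ∀ i, π i = i - 1 := by
  decide

/-- A frame in which the group of order `27` is standard. -/
theorem exists_frame [Fintype F] (sy : Sys 5 σ) (hσ : ∀ x, σ x = x ^ 5) (hbar : IsBar σ)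
    {H R : Subgroup (GL (Fin 3) F)} (hR : IsExtra 3 H R) (hU : R ≤ GU 3 F 5) :
    ∃ B : GL (Fin 3) F, act σ 1 (mat B) = 1 ∧ ∀ s ∈ extra5, ∃ g ∈ R, mat (B⁻¹ * g * B) = sy.mtx s := by
  classical
  obtain ⟨a, haR, has⟩ := SetLike.not_le_iff_exists.1 hR.nonscalar
  obtain ⟨b, ⟨l, hlinj, hla⟩, hmono⟩ := hR.basis a haR has
  have hdistinct : ∀ {i j : Fin 3} {c d : F}, c • b i = d • b j → c ≠ 0 → i = j := by
    intro i j c d e hc
    by_contra hij
    have h1 := congrArg (fun u => b.repr u i) e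
    simp [Ne.symm hij] at h1
    exact hc h1
  have hl3 : ∀ i, l i ^ 3 = 1 := fun i => by
    obtain ⟨j, c, hc, he⟩ := hmono a haR i
    have hc0 : c ≠ 0 := fun e => by rw [e] at hc; simp at hc
    rw [hla] at he
    obtain rfl := hdistinct he.symm hc0
    have h1 := congrArg (fun u => b.repr u j) he
    simp at h1
    rw [h1, hc]
  have hiso : ∀ g ∈ R, ∀ u v, stdH σ (mat g *ᵥ u) (mat g *ᵥ v) = stdH σ u v := by
    intro g hg u v
    have h1 := hU hg u v
    rw [hermForm_eq_formG hσ] at h1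
    exact h1
  have hsesq := isSesq_formG σ (1 : Matrix (Fin 3) (Fin 3) F)
  have hσ3 : ∀ c : F, c ^ 3 = 1 → c * σ c = 1 := fun c hc => by
    rw [hσ, ← pow_succ', show 5 + 1 = 3 * 2 by norm_num, pow_mul, hc, one_pow]
  have horth : ∀ i j, i ≠ j → stdH σ (b i) (b j) = 0 := by
    intro i j hij
    have h1 := hiso a haR (b i) (b j)
    rw [hla, hla] at h1
    change formG σ 1 _ _ = formG σ 1 _ _ at h1
    rw [hsesq.smul_left, hsesq.smul_right] at h1
    by_contra hne
    refine hij (hlinj ?_)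
    have h2 : l i * σ (l j) = 1 := mul_right_cancel₀ (show formG σ 1 (b i) (b j) ≠ 0 from hne)
      (by rw [one_mul]; linear_combination h1)
    have h3 := hσ3 _ (hl3 j)
    have hlj : σ (l j) ≠ 0 := fun e => by rw [e, mul_zero] at h3; exact zero_ne_one h3
    exact mul_right_cancel₀ hlj (h2.trans h3.symm)
  have hne : ∀ i, stdH σ (b i) (b i) ≠ 0 := by
    intro i e
    refine b.ne_zero i ?_
    funext k
    rw [← stdH_single (σ := σ) k (b i), Pi.zero_apply, ← b.sum_repr (Pi.single k 1), Fin.sum_univ_three]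
    show formG σ 1 _ (_ + _ + _) = _
    rw [hsesq.add_right, hsesq.add_right, hsesq.smul_right, hsesq.smul_right, hsesq.smul_right]
    have h : ∀ j, formG σ 1 (b i) (b j) = 0 := fun j => by
      by_cases h : i = j
      · subst h; exact e
      · exact horth i j h
    rw [h, h, h]; ring
  have hnorm : ∀ i, ∃ c : F, c * σ c = (stdH σ (b i) (b i))⁻¹ := fun i => hbar.norm _ (by
    rw [map_inv₀, ← stdH_comm hbar])
  choose n hn using hnorm
  -- order the eigenvalues
  set w : F := sy.ev 12 with hw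
  have hw3 : w ^ 3 = 1 := by rw [pow_three, hw, ← sy.ev_mul, ← sy.ev_mul, root_ok.1, sy.ev_one]
  have hw2 : w ^ 2 = sy.ev 17 := by rw [sq, hw, ← sy.ev_mul, root_ok.2]
  have hw1 : w ≠ 1 := fun e => by
    have := sy.ev_inj (by norm_num) (by norm_num) (e.trans sy.ev_one.symm)
    norm_num at this
  have hprim : IsPrimitiveRoot w 3 := by
    haveI : Fact (Nat.Prime 3) := ⟨Nat.prime_three⟩
    rw [← orderOf_eq_prime hw3 hw1]
    exact IsPrimitiveRoot.orderOf w
  have hex : ∀ i, ∃ k : Fin 3, w ^ (k : ℕ) = l i := fun i => by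
    obtain ⟨k, hk, e⟩ := hprim.eq_pow_of_pow_eq_one (hl3 i)
    exact ⟨⟨k, hk⟩, e⟩
  choose e he using hex
  have heinj : Function.Injective e := fun i j h => hlinj (by rw [← he i, ← he j, h])
  let eq : Fin 3 ≃ Fin 3 := Equiv.ofBijective e (Finite.injective_iff_bijective.1 heinj)
  set f : Fin 3 → Fin 3 → F := fun k => n (eq.symm k) • b (eq.symm k) with hf
  have hfa : ∀ k, mat a *ᵥ f k = w ^ (k : ℕ) • f k := fun k => by
    rw [hf]; simp only [Matrix.mulVec_smul, hla, smul_smul]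
    rw [show w ^ (k : ℕ) = l (eq.symm k) by rw [← he]; exact congrArg (fun m : Fin 3 => w ^ (m : ℕ)) (eq.apply_symm_apply k).symm,
      mul_comm]
  have hn0 : ∀ i, n i ≠ 0 := fun i e => inv_ne_zero (hne i) (by rw [← hn i, e, zero_mul])
  have hforth : ∀ i j, stdH σ (f i) (f j) = if i = j then 1 else 0 := by
    intro i j
    rw [hf]
    show formG σ 1 _ _ = _
    rw [hsesq.smul_left, hsesq.smul_right]
    by_cases h : i = j
    · subst h
      rw [if_pos rfl, ← mul_assoc, hn]
      exact inv_mul_cancel₀ (hne _)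
    · rw [if_neg h, show formG σ 1 (b (eq.symm i)) (b (eq.symm j)) = 0 from
        horth _ _ fun e => h (eq.symm.injective e), mul_zero, mul_zero]
  -- an element cycling the frame
  have hperm : ∀ x ∈ R, ∃ (π : Equiv.Perm (Fin 3)) (c : Fin 3 → F), (∀ i, c i ≠ 0) ∧
      ∀ i, mat x *ᵥ f i = c i • f (π i) := by
    intro x hx
    have h : ∀ i, ∃ (j : Fin 3) (c : F), mat x *ᵥ b i = c • b j := fun i => by
      obtain ⟨j, c, -, h⟩ := hmono x hx i; exact ⟨j, c, h⟩
    obtain ⟨π, c, hc, hπ⟩ := exists_perm h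
    refine ⟨(eq.symm.trans π).trans eq, fun i => n (eq.symm i) * c (eq.symm i) / n (π (eq.symm i)),
      fun i => div_ne_zero (mul_ne_zero (hn0 _) (hc _)) (hn0 _), fun i => ?_⟩
    simp only [hf, Equiv.trans_apply, Equiv.symm_apply_apply, Matrix.mulVec_smul, hπ, smul_smul,
      div_mul_cancel₀ _ (hn0 _)]
  have hexp : ∀ x ∈ R, x ^ 3 = 1 := fun x hx => by
    have h := Monoid.pow_exponent_eq_one (⟨x, hx⟩ : R)
    rw [hR.symp.exponent_eq] at h
    norm_num at h
    exact h
  have hlin : LinearIndependent F f :=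
    ((b.linearIndependent.comp _ eq.symm.injective).units_smul fun k => Units.mk0 _ (hn0 (eq.symm k)) : _)
  clear_value f
  clear hf
  obtain ⟨x, hxR, hxcyc⟩ : ∃ x ∈ R, ∀ i, ∃ c : F, mat x *ᵥ f i = c • f (i + 1) := by
    by_contra hno
    push Not at hno
    have hall : ∀ x ∈ R, ∀ i, ∃ c : F, mat x *ᵥ f i = c • f i := by
      intro x hx
      obtain ⟨π, c, hc, hπ⟩ := hperm x hx
      by_cases h1 : π = 1
      · intro i; exact ⟨c i, by rw [hπ, h1]; rfl⟩
      have hπ3 : π ^ 3 = 1 := by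
        ext i : 1
        have h2 : mat (x * (x * x)) *ᵥ f i = (c i * c (π i) * c (π (π i))) • f (π (π (π i))) := by
          rw [← mulVec_mul, ← mulVec_mul, hπ, Matrix.mulVec_smul, hπ, Matrix.mulVec_smul, Matrix.mulVec_smul, hπ,
            smul_smul, smul_smul]
        rw [show x * (x * x) = 1 by rw [← pow_three]; exact hexp x hx, show mat (1 : GL (Fin 3) F) = 1 from rfl,
          Matrix.one_mulVec] at h2
        show π (π (π i)) = i
        by_contra hne'
        have h3 := linearIndependent_iff'.1 hlin {i, π (π (π i))}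
          (fun k => if k = i then 1 else -(c i * c (π i) * c (π (π i)))) ?_ i (by simp)
        · simp at h3
        · rw [Finset.sum_pair (Ne.symm hne')]
          simp only [if_pos, if_neg hne', one_smul, neg_smul, ← h2, add_neg_cancel]
      rcases three_cycle π hπ3 h1 with h | h
      · obtain ⟨i, hi⟩ := hno x hx
        exact absurd (hπ i) (h i ▸ hi (c i))
      · obtain ⟨i, hi⟩ := hno (x * x) (mul_mem hx hx)
        refine absurd ?_ (hi (c i * c (π i)))
        rw [← mulVec_mul, hπ, Matrix.mulVec_smul, hπ, smul_smul, show π (π i) = i + 1 by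
          rw [h, h]; exact (by decide : ∀ i : Fin 3, i - 1 - 1 = i + 1) i]
    have hcomm : ∀ x ∈ R, ∀ y ∈ R, x * y = y * x := by
      intro x hx y hy
      refine Units.ext (Matrix.toLin'.injective
        ((basisOfLinearIndependentOfCardEqFinrank hlin (by simp)).ext fun i => ?_))
      obtain ⟨c, hc⟩ := hall x hx i
      obtain ⟨d, hd⟩ := hall y hy i
      simp only [coe_basisOfLinearIndependentOfCardEqFinrank, Matrix.toLin'_apply, Units.val_mul]
      show (mat x * mat y) *ᵥ f i = (mat y * mat x) *ᵥ f i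
      rw [← Matrix.mulVec_mulVec, ← Matrix.mulVec_mulVec, hc, hd, Matrix.mulVec_smul, Matrix.mulVec_smul, hc, hd,
        smul_smul, smul_smul, mul_comm]
    have h1 : Subgroup.center R = ⊤ := eq_top_iff.2 fun u _ => Subgroup.mem_center_iff.2 fun v =>
      Subtype.ext (hcomm v v.2 u u.2)
    have h2 := hR.card_center
    rw [h1, Subgroup.card_top, hR.card] at h2
    norm_num at h2
  obtain ⟨c0, hc0⟩ := hxcyc 0
  obtain ⟨c1, hc1⟩ := hxcyc 1
  set g : Fin 3 → Fin 3 → F := ![f 0, mat x *ᵥ f 0, mat x *ᵥ (mat x *ᵥ f 0)] with hg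
  have hx3 : mat x *ᵥ (mat x *ᵥ (mat x *ᵥ f 0)) = f 0 := by
    rw [mulVec_mul, mulVec_mul, ← pow_three', hexp x hxR]
    exact Matrix.one_mulVec _
  have hg1 : mat x *ᵥ f 0 = c0 • f 1 := hc0
  have hg2 : mat x *ᵥ (mat x *ᵥ f 0) = (c0 * c1) • f 2 := by rw [hg1, Matrix.mulVec_smul, hc1, smul_smul]; rfl
  have hga : ∀ k, mat a *ᵥ g k = w ^ (k : ℕ) • g k := by
    intro k
    fin_cases k
    · simpa [hg] using hfa 0
    · simp [hg, hg1, Matrix.mulVec_smul, hfa, smul_smul, mul_comm]
    · simp [hg, hg2, Matrix.mulVec_smul, hfa, smul_smul, mul_comm]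
  have hzero : ∀ i j (c d : F), i ≠ j → stdH σ (c • f i) (d • f j) = 0 := by
    intro i j c d h
    show formG σ 1 _ _ = _
    rw [hsesq.smul_left, hsesq.smul_right, show formG σ 1 (f i) (f j) = 0 from (hforth i j).trans (if_neg h),
      mul_zero, mul_zero]
  have hf0 : f 0 = (1 : F) • f 0 := (one_smul F _).symm
  have hgorth : ∀ i j, stdH σ (g i) (g j) = if i = j then 1 else 0 := by
    have h11 : stdH σ (f 0) (f 0) = 1 := by rw [hforth, if_pos rfl]
    intro i j
    fin_cases i <;> fin_cases j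
    · exact h11
    · show stdH σ (f 0) (mat x *ᵥ f 0) = 0
      rw [hg1, hf0]; exact hzero _ _ _ _ (by decide)
    · show stdH σ (f 0) (mat x *ᵥ (mat x *ᵥ f 0)) = 0
      rw [hg2, hf0]; exact hzero _ _ _ _ (by decide)
    · show stdH σ (mat x *ᵥ f 0) (f 0) = 0
      rw [hg1, hf0]; exact hzero _ _ _ _ (by decide)
    · exact (hiso x hxR _ _).trans h11
    · show stdH σ (mat x *ᵥ f 0) (mat x *ᵥ (mat x *ᵥ f 0)) = 0
      rw [hg2, hg1]; exact hzero _ _ _ _ (by decide)
    · show stdH σ (mat x *ᵥ (mat x *ᵥ f 0)) (f 0) = 0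
      rw [hg2, hf0]; exact hzero _ _ _ _ (by decide)
    · show stdH σ (mat x *ᵥ (mat x *ᵥ f 0)) (mat x *ᵥ f 0) = 0
      rw [hg2, hg1]; exact hzero _ _ _ _ (by decide)
    · exact ((hiso x hxR _ _).trans (hiso x hxR _ _)).trans h11
  let Bm : Matrix (Fin 3) (Fin 3) F := Matrix.of fun i j => g j i
  have hBact : act σ 1 Bm = 1 := by
    ext i j
    rw [stdH_cols, Matrix.one_apply]
    exact hgorth i j
  obtain ⟨B, hB⟩ := isUnit_of_det (A := Bm) fun e => by
    have h := congrArg Matrix.det hBact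
    rw [det_act, e, zero_mul, zero_mul, Matrix.det_one] at h
    exact zero_ne_one h
  refine ⟨B, by rw [mat, hB]; exact hBact, ?_⟩
  have hBe : ∀ k, mat B *ᵥ Pi.single k 1 = g k := fun k => by
    rw [mat, hB, Matrix.mulVec_single_one]; rfl
  have hconj : ∀ (y : GL (Fin 3) F) (M : Matrix (Fin 3) (Fin 3) F),
      (∀ k, mat y *ᵥ g k = mat B *ᵥ (fun i => M i k)) → mat (B⁻¹ * y * B) = M := by
    intro y M h
    refine Matrix.ext_of_mulVec_single fun k => ?_
    rw [← mulVec_mul, ← mulVec_mul, hBe, h, inv_mulVec_cancel, Matrix.mulVec_single_one]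
    rfl
  have hcol : ∀ (M : Matrix (Fin 3) (Fin 3) F) k, mat B *ᵥ (fun i => M i k) = ∑ i, M i k • g i := by
    intro M k
    funext i
    rw [mat, hB]
    simp [Bm, Matrix.mulVec, dotProduct, Fin.sum_univ_three, mul_comm]
  have hA : mat (B⁻¹ * a * B) = sy.mtx genA := hconj a _ fun k => by
    rw [hga, hcol]
    fin_cases k <;> simp [genA, Sys.mtx, Sys.vec, Fin.sum_univ_three, sy.ev_zero, sy.ev_one, ← hw, ← hw2]
  have hX : mat (B⁻¹ * x * B) = sy.mtx genB := hconj x _ fun k => by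
    rw [hcol]
    fin_cases k <;> simp [genB, Sys.mtx, Sys.vec, Fin.sum_univ_three, sy.ev_zero, sy.ev_one, hg]
    simpa only [Matrix.mulVec_mulVec, mul_assoc] using hx3
  obtain ⟨ζ, hζ, z, hzR, hzm⟩ := hR.root
  have hscal : ∀ c : ℕ, c ∈ [1, 12, 17] → ∃ y ∈ R, mat (B⁻¹ * y * B) = sy.ev c • (1 : Matrix (Fin 3) (Fin 3) F) := by
    intro c hc
    have hc3 : sy.ev c ^ 3 = 1 := by
      simp only [List.mem_cons, List.not_mem_nil, or_false] at hc
      rcases hc with rfl | rfl | rfl
      · rw [sy.ev_one, one_pow]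
      · exact hw3
      · rw [← hw2, ← pow_mul, mul_comm, pow_mul, hw3, one_pow]
    obtain ⟨i, -, hi⟩ := hζ.eq_pow_of_pow_eq_one hc3
    refine ⟨z ^ i, pow_mem hzR i, ?_⟩
    show ((B⁻¹ * z ^ i * B : GL (Fin 3) F) : Matrix (Fin 3) (Fin 3) F) = _
    rw [Units.val_mul, Units.val_mul, Units.val_pow_eq_pow_val, show (z : Matrix (Fin 3) (Fin 3) F) = mat z from rfl,
      hzm, smul_pow, one_pow, hi, Matrix.mul_smul, mul_one, Matrix.smul_mul]
    congr 1
    exact mat_inv_mul B
  intro s hs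
  simp only [extra5, List.mem_flatMap, List.mem_map, List.mem_range] at hs
  obtain ⟨c, hc, i, -, j, -, rfl⟩ := hs
  obtain ⟨y, hy, hym⟩ := hscal c hc
  refine ⟨y * (a ^ i * x ^ j), mul_mem hy (mul_mem (pow_mem haR i) (pow_mem hxR j)), ?_⟩
  have hsplit : mat (B⁻¹ * (y * (a ^ i * x ^ j)) * B) =
      mat (B⁻¹ * y * B) * (mat (B⁻¹ * a * B) ^ i * mat (B⁻¹ * x * B) ^ j) := by
    rw [show B⁻¹ * (y * (a ^ i * x ^ j)) * B = (B⁻¹ * y * B) * ((B⁻¹ * a * B) ^ i * (B⁻¹ * x * B) ^ j) by
      have h2 : ∀ (u : GL (Fin 3) F) (m : ℕ), (B⁻¹ * u * B) ^ m = B⁻¹ * u ^ m * B := fun u m => by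
        simpa using conj_pow (a := B⁻¹) (b := u) (i := m)
      rw [h2, h2]; group]
    simp [mat]
  rw [hsplit, hA, hX, hym, sy.mtx_mul, sy.mtx_mul, mtx_mpow, mtx_mpow]
  congr 1
  ext i' j'
  fin_cases i' <;> fin_cases j' <;> simp [Sys.mtx, Sys.vec, sy.ev_zero]

/-- In `SU₃(5)` the normaliser of a group of order `27` of symplectic type is not maximal. -/
theorem extra_false [Fintype F] (hF : Fintype.card F = 5 ^ 2) {H R : Subgroup (GL (Fin 3) F)}
    (hH : IsMaximalIn (SG F 5) H) (hR : IsExtra 3 H R) (hU : R ≤ GU 3 F 5)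
    (hle : H ≤ subgroupNormalizer R) : False := by
  classical
  obtain ⟨σ, hσ, hbar⟩ := exists_bar hF
  obtain ⟨sy⟩ := exists_sys (Or.inr rfl) hF hσ
  obtain ⟨B, hB, hstd⟩ := exists_frame sy hσ hbar hR hU
  haveI : Finite R := Subtype.finite
  -- every element of the group is standard
  have hall : ∀ g ∈ R, ∃ s ∈ extra5, mat (B⁻¹ * g * B) = sy.mtx s := by
    choose F' hF' hFm using hstd
    let Φ : {s // s ∈ extra5.toFinset} → R := fun s => ⟨F' s.1 (List.mem_toFinset.1 s.2), hF' _ _⟩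
    have hinj : Function.Injective Φ := by
      intro s t h
      have h1 : F' s.1 (List.mem_toFinset.1 s.2) = F' t.1 (List.mem_toFinset.1 t.2) := congrArg Subtype.val h
      have h2 := hFm s.1 (List.mem_toFinset.1 s.2)
      rw [h1, hFm] at h2
      exact Subtype.ext (mtx_inj sy (List.all_eq_true.1 extra5_small _ (List.mem_toFinset.1 s.2))
        (List.all_eq_true.1 extra5_small _ (List.mem_toFinset.1 t.2)) h2.symm)
    have hbij := hinj.bijective_of_nat_card_le (by
      rw [Nat.card_eq_fintype_card (α := {s // s ∈ extra5.toFinset}), Fintype.card_coe,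
        List.toFinset_card_of_nodup extra5_nodup, extra5_len, hR.card]
      norm_num)
    intro g hg
    obtain ⟨s, hs⟩ := hbij.2 ⟨g, hg⟩
    refine ⟨s.1, List.mem_toFinset.1 s.2, ?_⟩
    rw [← show F' s.1 (List.mem_toFinset.1 s.2) = g from congrArg Subtype.val hs]
    exact hFm _ _
  have hnorm : ∀ h ∈ H, ∀ s ∈ extra5, ∃ r ∈ extra5,
      mat (B⁻¹ * h * B) * sy.mtx s = sy.mtx r * mat (B⁻¹ * h * B) := by
    intro h hh s hs
    obtain ⟨g, hg, hgm⟩ := hstd s hs
    obtain ⟨r, hr, hrm⟩ := hall _ ((Subgroup.mem_normalizer_iff.1 (hle hh) g).1 hg)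
    refine ⟨r, hr, ?_⟩
    rw [← hgm, ← hrm]
    show ((B⁻¹ * h * B : GL (Fin 3) F) : Matrix (Fin 3) (Fin 3) F) * ((B⁻¹ * g * B : GL (Fin 3) F) : Matrix (Fin 3) (Fin 3) F) = _
    rw [← Units.val_mul, mat, ← Units.val_mul]
    exact congrArg Units.val (by group)
  have hgen := Bool.and_eq_true_iff.1 gen_mem
  simp only [List.contains_iff_mem] at hgen
  have hHL : ∀ h ∈ H, Pres sy ptsR (mat (B⁻¹ * h * B)) := by
    intro h hh
    obtain ⟨h1, h2⟩ := conj_SG hσ hB (hH.1.le hh)
    set h' := B⁻¹ * h * B with hh'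
    obtain ⟨r, hr, hrA⟩ := hnorm h hh _ hgen.1
    have hframe := List.all_eq_true.1 frame_ok r hr
    rw [Bool.or_eq_true] at hframe
    have hA0 : sy.mtx genA 0 0 = 1 := by simp [genA, Sys.mtx, Sys.vec, sy.ev_one]
    have hA1 : sy.mtx genA 1 1 ≠ 1 := by
      simp only [genA, Sys.mtx, Sys.vec, Matrix.of_apply, Matrix.cons_val_zero, Matrix.cons_val_one]
      intro e
      have := sy.ev_inj (by norm_num) (by norm_num) (e.trans sy.ev_one.symm)
      norm_num at this
    have hnr : ¬ isScalar r = true := by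
      intro hs
      simp only [isScalar, isDiag, Bool.and_eq_true, beq_iff_eq] at hs
      obtain ⟨⟨⟨⟨⟨⟨⟨r01, r02⟩, r10⟩, r12⟩, r20⟩, r21⟩, e1⟩, e2⟩ := hs
      have hrs : sy.mtx r = sy.ev r.1.1 • (1 : Matrix (Fin 3) (Fin 3) F) := by
        ext i j
        fin_cases i <;> fin_cases j <;>
          simp [Sys.mtx, Sys.vec, r01, r02, r10, r12, r20, r21, e1, e2, sy.ev_zero]
      rw [hrs, Matrix.smul_mul, one_mul, ← mul_one (mat h'), mul_assoc, one_mul, ← Matrix.mul_smul] at hrA
      have hc := (Units.isUnit h').mul_left_cancel hrA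
      rw [hc] at hA0 hA1
      simp at hA0 hA1
      exact hA1 hA0
    obtain ⟨m, hm, hms⟩ := List.any_eq_true.1 (hframe.resolve_left hnr)
    obtain ⟨s, hs, hsd⟩ := List.any_eq_true.1 hms
    simp only [Bool.and_eq_true, beq_iff_eq] at hsd
    have hmok := List.all_eq_true.1 ms5_ok m hm
    simp only [Bool.and_eq_true] at hmok
    obtain ⟨mu, hmu, hmum⟩ := exists_mem_SG sy hσ hbar.involutive hmok.1.1
    set k := mu⁻¹ * h' with hk
    have hkmat : mat h' = sy.mtx m * mat k := by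
      rw [← hmum, hk]
      show (h' : Matrix (Fin 3) (Fin 3) F) = (mu : Matrix (Fin 3) (Fin 3) F) * ((mu⁻¹ * h' : GL (Fin 3) F) : Matrix (Fin 3) (Fin 3) F)
      rw [← Units.val_mul, mul_inv_cancel_left]
    have hmunit : IsUnit (sy.mtx m) := hmum ▸ Units.isUnit mu
    have hkS : k ∈ SG F 5 := mul_mem (inv_mem hmu) ((mem_SG_iff hσ).2 ⟨h1, h2⟩)
    obtain ⟨k1, k2⟩ := (mem_SG_iff hσ).1 hkS
    have hknorm : ∀ t ∈ extra5, ∃ t' ∈ extra5, mat k * sy.mtx t = sy.mtx t' * mat k := by
      intro t ht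
      obtain ⟨t1, ht1, e1⟩ := hnorm h hh t ht
      obtain ⟨t', ht', e2⟩ := List.any_eq_true.1 (List.all_eq_true.1 (List.all_eq_true.1 back_ok m hm) t1 ht1)
      refine ⟨t', ht', hmunit.mul_left_cancel ?_⟩
      rw [← mul_assoc, ← hkmat, e1, hkmat, ← mul_assoc, ← sy.mtx_mul, beq_iff_eq.1 e2, sy.mtx_mul, mul_assoc]
    have hkA : mat k * sy.mtx genA = sy.mtx s * mat k := by
      refine hmunit.mul_left_cancel ?_
      rw [← mul_assoc, ← hkmat, hrA, hkmat, ← mul_assoc, ← sy.mtx_mul, hsd.2, sy.mtx_mul, mul_assoc]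
    have hsdiag : ∀ i j, i ≠ j → sy.mtx s i j = 0 := by
      have hd := hsd.1
      simp only [isDiag, Bool.and_eq_true, beq_iff_eq] at hd
      obtain ⟨⟨⟨⟨⟨d01, d02⟩, d10⟩, d12⟩, d20⟩, d21⟩ := hd
      intro i j hij
      fin_cases i <;> fin_cases j <;>
        first | exact absurd rfl hij | simp [Sys.mtx, Sys.vec, d01, d02, d10, d12, d20, d21, sy.ev_zero]
    have hAd : ∀ i j, i ≠ j → sy.mtx genA i j = 0 := by
      intro i j hij
      fin_cases i <;> fin_cases j <;> first | exact absurd rfl hij | simp [genA, Sys.mtx, Sys.vec, sy.ev_zero]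
    have hAinj : Function.Injective fun j => sy.mtx genA j j := by
      intro i j hij
      have hcode : ∀ u : Fin 3, sy.mtx genA u u = sy.ev (![1, 12, 17] u) := fun u => by
        fin_cases u <;> simp [genA, Sys.mtx, Sys.vec]
      simp only [hcode] at hij
      have h3 := sy.ev_inj (by fin_cases i <;> norm_num) (by fin_cases j <;> norm_num) hij
      fin_cases i <;> fin_cases j <;> simp at h3 ⊢
    have hrow : ∀ i j j', mat k i j ≠ 0 → mat k i j' ≠ 0 → j = j' := by
      have hval : ∀ i j, mat k i j ≠ 0 → sy.mtx s i i = sy.mtx genA j j := by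
        intro i j hne
        have e := congrFun (congrFun hkA i) j
        rw [Matrix.mul_apply, Matrix.mul_apply, Finset.sum_eq_single j (fun b _ hb => by rw [hAd b j hb, mul_zero])
          (by simp), Finset.sum_eq_single i (fun b _ hb => by rw [hsdiag i b (Ne.symm hb), zero_mul]) (by simp),
          mul_comm (sy.mtx s i i)] at e
        exact (mul_left_cancel₀ hne e).symm
      intro i j j' hj hj'
      exact hAinj ((hval i j hj).symm.trans (hval i j' hj'))
    have hcolne : ∀ j, ∃ i, mat k i j ≠ 0 := by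
      intro j
      by_contra hz
      push Not at hz
      rw [Matrix.det_eq_zero_of_column_eq_zero j hz] at k2
      exact zero_ne_one k2
    choose π hπ using hcolne
    have hπinj : Function.Injective π := fun j j' e => hrow (π j) j j' (hπ j) (e ▸ hπ j')
    let P : Equiv.Perm (Fin 3) := Equiv.ofBijective π (Finite.injective_iff_bijective.1 hπinj)
    have hkc : ∀ j, (fun i => mat k i j) = mat k (P j) j • (Pi.single (P j) 1 : Fin 3 → F) := by
      intro j
      funext i
      by_cases hij : i = P j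
      · subst hij; simp
      · rw [Pi.smul_apply, Pi.single_eq_of_ne hij, smul_zero]
        by_contra hne
        obtain ⟨j', hj'⟩ := P.surjective i
        refine hij ?_
        rw [← hj', hrow i j' j (hj' ▸ hπ j') hne]
    obtain ⟨mm', hmm', hmk⟩ := mono_code sy k1 k2 P (fun j => mat k (P j) j) hkc
    have hmR := List.all_eq_true.1 monoR_ok mm' hmm'
    have hcond : ∀ t ∈ [genA, genB], extra5.any (fun s' => mm 5 mm' t == mm 5 s' mm') = true := by
      intro t ht
      have ht' : t ∈ extra5 := by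
        simp only [List.mem_cons, List.not_mem_nil, or_false] at ht
        rcases ht with rfl | rfl
        · exact hgen.1
        · exact hgen.2
      obtain ⟨t', hti, e⟩ := hknorm t ht'
      refine List.any_eq_true.2 ⟨t', hti, beq_iff_eq.2 (sy.mtx_inj_mm ?_)⟩
      rw [sy.mtx_mul, sy.mtx_mul, hmk]
      exact e
    have hA' := hcond genA (by simp)
    have hB' := hcond genB (by simp)
    simp only [genA, genB] at hA' hB'
    rw [hA', hB'] at hmR
    simp at hmR
    have hkP : Pres sy ptsR (mat k) := hmk ▸ pres_of_check sy smallR hmR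
    rw [hkmat]
    exact (pres_of_check sy smallR hmok.1.2).mul hkP
  have hin := inR_ok
  simp only [Bool.and_eq_true, bne_iff_ne, ne_eq, List.all_eq_true] at hin
  obtain ⟨g, hg, hgm⟩ := exists_mem_SG sy hσ hbar.involutive hin.1.1
  have hgH := mem_of_le_stab sy hσ hbar.involutive outR_ok hH hB hHL hg (hgm ▸ pres_of_check sy smallR hin.1.2)
  obtain ⟨r, hr, e⟩ := hnorm _ hgH _ hgen.1
  rw [show B⁻¹ * (B * g * B⁻¹) * B = g by group, hgm, ← sy.mtx_mul, ← sy.mtx_mul] at e
  exact hin.2 r hr (sy.mtx_inj_mm e)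

end Cfsg.Agent.SUSmall
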