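import Cfsg.Agent.SUSmall.Data

/-!
Kernel-decided checks on the explicit data.
-/

set_option autoImplicit false
set_option maxRecDepth 100000

namespace Cfsg.Agent.SUSmall

theorem small3 : (pts3.all fun v => small 3 v) = true := by decide +kernel
theorem in3_ok : (isSU 3 in3 && pres 3 pts3 in3) = true := by decide +kernel
theorem out3_ok : (isSU 3 out3 && escapes 3 pts3 out3) = true := by decide +kernel
theorem real3_ok : realCheck 3 pts3 = true := by decide +kernel
theorem x3_ok : (isSU 3 x3 && pres 3 pts3 x3 && isSU 3 y3 && pres 3 pts3 y3 && mpow 3 x3 7 == ident && x3 != ident &&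
    mm 3 y3 x3 == mm 3 (mpow 3 x3 2) y3 && det3 3 (cyclicMat 3 x3 (1, 0, 0)) != 0 && powCheck 3 x3 &&
    (List.range 7).all fun k => mm 3 in3 x3 != mm 3 (mpow 3 x3 k) in3) = true := by decide +kernel
theorem cent3_ok : centCheck 3 x3 = true := by decide +kernel

end Cfsg.Agent.SUSmall
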