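import Cfsg.Agent.SUSmall.Data

/-!
Kernel-decided checks on the explicit data.
-/

set_option autoImplicit false
set_option maxRecDepth 100000

namespace Cfsg.Agent.SUSmall

theorem small5 : (pts5.all fun v => small 5 v) = true := by decide +kernel
theorem in5_ok : (isSU 5 in5 && pres 5 pts5 in5) = true := by decide +kernel
theorem out5_ok : (isSU 5 out5 && escapes 5 pts5 out5) = true := by decide +kernel
theorem x5_ok : (isSU 5 x5 && pres 5 pts5 x5 && isSU 5 y5 && pres 5 pts5 y5 && mpow 5 x5 7 == ident && x5 != ident &&
    mm 5 y5 x5 == mm 5 (mpow 5 x5 2) y5 && det3 5 (cyclicMat 5 x5 (1, 0, 0)) != 0 && powCheck 5 x5 &&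
    (List.range 7).all fun k => mm 5 in5 x5 != mm 5 (mpow 5 x5 k) in5) = true := by decide +kernel
theorem cent5_ok : centCheck 5 x5 = true := by decide +kernel
theorem mono5_ok : ((baseMono 5).all fun g => pres 5 pts5 g) = true := by decide +kernel
theorem factor5_ok : factorCheck 5 = true := by decide +kernel
theorem realT5_ok : (realT5.all fun g => pres 5 pts5 g) = true := by decide +kernel
theorem realFactor_ok : realFactor = true := by decide +kernel

end Cfsg.Agent.SUSmall
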