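import Cfsg.Agent.SUSmall.Model

/-!
Explicit data for the exceptional overgroups in `SU₃(3)` and `SU₃(5)`, with the finite checks.
-/

set_option autoImplicit false

namespace Cfsg.Agent.SUSmall


def pts3 : List V := [(0,0,1),(0,1,0),(0,1,1),(0,1,2),(1,0,0),(1,0,1),(1,0,2),(1,1,0),(1,1,5),(1,1,7),(1,2,0),(1,2,5),(1,2,7),(1,4,4),(1,4,8),(1,5,1),(1,5,2),(1,7,1),(1,7,2),(1,8,4),(1,8,8)]
def in3 : M3 := ((0,5,5),(8,1,2),(8,2,1))
def out3 : M3 := ((3,7,1),(4,0,5),(3,5,1))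
def x3 : M3 := ((1,1,4),(5,7,0),(1,1,8))
def y3 : M3 := ((0,1,0),(0,0,2),(2,0,0))

def pts5 : List V := [(0,0,1),(0,1,0),(0,1,1),(0,1,4),(0,1,12),(0,1,13),(0,1,17),(0,1,18),(1,0,0),(1,0,1),(1,0,4),(1,0,12),(1,0,13),(1,0,17),(1,0,18),(1,1,0),(1,1,1),(1,1,2),(1,1,3),(1,1,4),(1,1,10),(1,1,15),(1,2,1),(1,2,2),(1,2,3),(1,2,4),(1,3,1),(1,3,2),(1,3,3),(1,3,4),(1,4,0),(1,4,1),(1,4,2),(1,4,3),(1,4,4),(1,4,10),(1,4,15),(1,5,5),(1,5,20),(1,6,9),(1,6,13),(1,6,17),(1,6,21),(1,7,13),(1,7,17),(1,8,12),(1,8,18),(1,9,6),(1,9,12),(1,9,18),(1,9,24),(1,10,1),(1,10,4),(1,11,14),(1,11,16),(1,12,0),(1,12,8),(1,12,9),(1,12,13),(1,12,17),(1,12,21),(1,12,22),(1,13,0),(1,13,6),(1,13,7),(1,13,12),(1,13,18),(1,13,23),(1,13,24),(1,14,11),(1,14,19),(1,15,1),(1,15,4),(1,16,11),(1,16,19),(1,17,0),(1,17,6),(1,17,7),(1,17,12),(1,17,18),(1,17,23),(1,17,24),(1,18,0),(1,18,8),(1,18,9),(1,18,13),(1,18,17),(1,18,21),(1,18,22),(1,19,14),(1,19,16),(1,20,5),(1,20,20),(1,21,6),(1,21,12),(1,21,18),(1,21,24),(1,22,12),(1,22,18),(1,23,13),(1,23,17),(1,24,9),(1,24,13),(1,24,17),(1,24,21)]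
def in5 : M3 := ((6,12,12),(1,3,4),(17,13,21))
def out5 : M3 := ((1,18,6),(9,9,14),(13,12,21))
def x5 : M3 := ((0,5,11),(5,9,6),(19,24,3))
def y5 : M3 := ((3,2,5),(3,2,20),(20,20,0))
def ptsR : List V := [(1,1,5),(1,1,11),(1,1,16),(1,1,19),(1,5,1),(1,5,17),(1,7,7),(1,7,8),(1,8,7),(1,8,15),(1,10,22),(1,10,23),(1,11,1),(1,11,12),(1,12,11),(1,12,14),(1,12,16),(1,12,20),(1,14,12),(1,14,17),(1,15,8),(1,15,15),(1,16,1),(1,16,12),(1,17,5),(1,17,14),(1,17,19),(1,17,20),(1,19,1),(1,19,17),(1,20,12),(1,20,17),(1,22,10),(1,22,22),(1,23,10),(1,23,23)]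
def inR : M3 := ((9,6,16),(21,24,16),(14,5,0))
def outR : M3 := ((1,18,6),(9,9,14),(13,12,21))
def ms5 : List M3 := [((1,0,0),(0,1,0),(0,0,1)),((7,7,7),(7,15,8),(7,8,15)),((7,7,8),(7,15,15),(15,7,15)),((7,7,15),(7,15,7),(8,15,15))]

def realT5 : List M3 := [((0,0,1),(0,1,0),(1,0,0)),((0,0,1),(0,1,0),(4,0,0)),((0,0,1),(1,0,0),(0,1,0)),((0,0,1),(4,0,0),(0,1,0)),((1,0,0),(0,0,1),(0,1,0)),((1,1,2),(1,2,1),(2,1,1)),((1,1,2),(1,2,1),(3,4,4)),((1,1,2),(2,1,1),(1,2,1)),((1,1,2),(2,1,1),(4,3,4)),((1,1,2),(3,4,4),(1,2,1)),((1,1,2),(3,4,4),(4,3,4)),((1,1,2),(4,3,4),(2,1,1)),((1,1,2),(4,3,4),(3,4,4)),((2,1,1),(1,1,2),(1,2,1)),((2,1,1),(1,1,2),(4,3,4)),((2,1,1),(4,3,4),(1,1,2)),((2,1,1),(4,3,4),(4,4,3)),((3,1,1),(1,3,4),(1,4,3)),((3,1,1),(1,3,4),(4,1,2)),((3,1,1),(4,1,2),(1,3,4)),((3,1,1),(4,1,2),(4,2,1)),((4,0,0),(0,0,1),(0,1,0)),((4,1,2),(1,3,4),(2,4,4)),((4,1,2),(1,3,4),(3,1,1)),((4,1,2),(2,4,4),(1,3,4)),((4,1,2),(2,4,4),(4,2,1)),((4,1,2),(3,1,1),(1,3,4)),((4,1,2),(3,1,1),(4,2,1)),((4,1,2),(4,2,1),(2,4,4)),((4,1,2),(4,2,1),(3,1,1))]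

def mpow (p : ℕ) (g : M3) : ℕ → M3
  | 0 => ident
  | k + 1 => mm p (mpow p g k) g

def norms (p : ℕ) : List ℕ := (List.range (p * p)).filter fun a => qm p a (qb p a) == 1

def monoShapes (a b c : ℕ) : List M3 :=
  [((a, 0, 0), (0, b, 0), (0, 0, c)), ((0, a, 0), (0, 0, b), (c, 0, 0)), ((0, 0, a), (b, 0, 0), (0, c, 0)),
   ((a, 0, 0), (0, 0, b), (0, c, 0)), ((0, a, 0), (b, 0, 0), (0, 0, c)), ((0, 0, a), (0, b, 0), (c, 0, 0))]

/-- All monomial elements of the special unitary group. -/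
def monoMats (p : ℕ) : List M3 :=
  ((norms p).flatMap fun a => (norms p).flatMap fun b => (norms p).flatMap fun c => monoShapes a b c).filter fun g =>
    det3 p g == 1

/-- Real vectors of norm one. -/
def realUnits (p : ℕ) : List V :=
  ((List.range p).flatMap fun a => (List.range p).flatMap fun b => (List.range p).map fun c => (a, b, c)).filter
    fun v => herm p v v == 1

/-- The real orthogonal matrices preserve the set. -/
def realCheck (p : ℕ) (S : List V) : Bool :=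
  (realUnits p).all fun a => (realUnits p).all fun b => herm p a b != 0 ||
    (realUnits p).all fun c => herm p a c != 0 || herm p b c != 0 || pres p S (tr (a, b, c))

/-- The matrix with columns `v, x v, x² v`. -/
def cyclicMat (p : ℕ) (x : M3) (v : V) : M3 := tr (v, mv p x v, mv p x (mv p x v))

/-- Every candidate image of the first basis vector under the centraliser of `x` comes from a power of `x`. -/
def centCheck (p : ℕ) (x : M3) : Bool :=
  (List.range (p * p)).all fun a => (List.range (p * p)).all fun b => (List.range (p * p)).all fun c =>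
    let v : V := (a, b, c)
    let e : V := (1, 0, 0)
    herm p v v != 1 || herm p (mv p x v) v != herm p (mv p x e) e ||
      herm p (mv p x (mv p x v)) v != herm p (mv p x (mv p x e)) e ||
      det3 p (cyclicMat p x v) != det3 p (cyclicMat p x e) ||
      (List.range 7).any fun i => (List.range (p * p)).any fun k => smul p k (mv p (mpow p x i) e) == v

/-- The trace of a coded matrix. -/
def trace3 (p : ℕ) (g : M3) : ℕ := qa p (qa p g.1.1 g.2.1.2.1) g.2.2.2.2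

def powCheck (p : ℕ) (x : M3) : Bool :=
  (List.range 7).all fun k => trace3 p (mpow p x k) != trace3 p x || k == 1 || k == 2 || k == 4

/-- The standard elements `c aⁱ bʲ` of the extraspecial group of order `27`. -/
def extra5 : List M3 :=
  [1, 12, 17].flatMap fun c => (List.range 3).flatMap fun i => (List.range 3).map fun j =>
    mm 5 (((c, 0, 0), (0, c, 0), (0, 0, c))) (mm 5 (mpow 5 ((1, 0, 0), (0, 12, 0), (0, 0, 17)) i)
      (mpow 5 ((0, 0, 1), (1, 0, 0), (0, 1, 0)) j))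

def isDiag (g : M3) : Bool :=
  g.1.2.1 == 0 && g.1.2.2 == 0 && g.2.1.1 == 0 && g.2.1.2.2 == 0 && g.2.2.1 == 0 && g.2.2.2.1 == 0

def isScalar (g : M3) : Bool := isDiag g && g.1.1 == g.2.1.2.1 && g.2.1.2.1 == g.2.2.2.2

def frameCheck : Bool :=
  extra5.all fun r => isScalar r || ms5.any fun m => extra5.any fun s => isDiag s && mm 5 r m == mm 5 m s

def normCheck (m : M3) : Bool := extra5.all fun s => extra5.any fun s' => mm 5 m s == mm 5 s' m

def monoRCheck : Bool :=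
  (monoMats 5).all fun m =>
    !((extra5.any fun s => mm 5 m ((1, 0, 0), (0, 12, 0), (0, 0, 17)) == mm 5 s m) &&
      extra5.any fun s => mm 5 m ((0, 0, 1), (1, 0, 0), (0, 1, 0)) == mm 5 s m) || pres 5 ptsR m

def pattern (g : M3) : M3 :=
  let f : ℕ → ℕ := fun a => if a = 0 then 0 else 1
  ((f g.1.1, f g.1.2.1, f g.1.2.2), (f g.2.1.1, f g.2.1.2.1, f g.2.1.2.2), (f g.2.2.1, f g.2.2.2.1, f g.2.2.2.2))

def rowSum (p : ℕ) (v : V) : ℕ := qa p (qa p v.1 v.2.1) v.2.2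

def msmul (p c : ℕ) (g : M3) : M3 := (smul p c g.1, smul p c g.2.1, smul p c g.2.2)

def normDiag (p : ℕ) (g : M3) : M3 :=
  ((1, 0, 0), (0, qm p (qinv p (rowSum p g.1)) (rowSum p g.2.1), 0), (0, 0, qm p (qinv p (rowSum p g.1)) (rowSum p g.2.2)))

def baseMono (p : ℕ) : List M3 :=
  monoShapes 1 1 1 ++ ((norms p).flatMap fun b => ((norms p).filter fun c => qm p b c == 1 || qm p b c == p - 1).map
    fun c => ((1, 0, 0), (0, b, 0), (0, 0, c)))

def factorCheck (p : ℕ) : Bool :=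
  (monoMats p).all fun g => (baseMono p).contains (pattern g) && (baseMono p).contains (normDiag p g) &&
    msmul p (rowSum p g.1) (mm p (normDiag p g) (pattern g)) == g

def isMono (p : ℕ) (g : M3) : Bool :=
  (baseMono p).contains (pattern g) && (baseMono p).contains (normDiag p g) &&
    msmul p (rowSum p g.1) (mm p (normDiag p g) (pattern g)) == g

/-- Real orthogonal matrices factor through the listed ones and monomial ones. -/
def realFactor : Bool :=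
  (realUnits 5).all fun a => (realUnits 5).all fun b => herm 5 a b != 0 ||
    (realUnits 5).all fun c => herm 5 a c != 0 || herm 5 b c != 0 ||
      realT5.any fun t => col0 t == a && ortho 5 t && isMono 5 (mm 5 (tr t) (tr (a, b, c)))

end Cfsg.Agent.SUSmall
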