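import Cfsg.Agent.SUSmall.Data

/-!
Stabilisers of explicit point sets and the criterion for non-maximality.
-/

set_option autoImplicit false

namespace Cfsg.Agent.SUSmall

open Matrix Cfsg.Geo Cfsg.Agent.PrimeDim
open scoped MatrixGroups

variable {F : Type*} [Field F] {p : ℕ} {σ : F ≃+* F}

/-- The special unitary group inside the general linear group. -/
abbrev SG (F : Type*) [Field F] (p : ℕ) : Subgroup (GL (Fin 3) F) := GU 3 F p ⊓ specialLinear (Fin 3) F

theorem hermForm_eq_formG (hσ : ∀ x, σ x = x ^ p) : hermForm 3 F p = formG σ (1 : Matrix (Fin 3) (Fin 3) F) := by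
  funext u v
  show _ = stdH σ u v
  rw [stdH_eq]
  exact Finset.sum_congr rfl fun i _ => by rw [hσ]

theorem mem_SG_iff (hσ : ∀ x, σ x = x ^ p) {g : GL (Fin 3) F} :
    g ∈ SG F p ↔ act σ 1 (mat g) = 1 ∧ (mat g).det = 1 := by
  rw [Subgroup.mem_inf]
  refine and_congr ⟨fun h => formG_ext (σ := σ) fun u v => ?_, fun h => ?_⟩ ?_
  · rw [← formG_mulVec, ← hermForm_eq_formG hσ]
    exact h u v
  · intro u v
    rw [hermForm_eq_formG hσ, formG_mulVec]
    exact congrArg (fun X => formG σ X u v) h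
  · exact ⟨fun h => congrArg Units.val h, fun h => Units.ext h⟩

theorem stdH_cols (X : Matrix (Fin 3) (Fin 3) F) (i j : Fin 3) :
    act σ 1 X i j = stdH σ (fun k => X k i) (fun k => X k j) := by
  simp [act, Matrix.mul_apply, stdH_eq]

theorem act_eq_one_of_ortho (sy : Sys p σ) (hσi : ∀ a, σ (σ a) = a) {m : M3} (h : ortho p m = true) :
    act σ 1 (sy.mtx m) = 1 := by
  simp only [ortho, Bool.and_eq_true, beq_iff_eq] at h
  obtain ⟨⟨⟨⟨⟨h00, h11⟩, h22⟩, h01⟩, h02⟩, h12⟩ := h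
  have hc : ∀ u v : Fin 3 → F, stdH σ u v = σ (stdH σ v u) := fun u v => by
    rw [stdH_eq, stdH_eq, map_sum]
    exact Finset.sum_congr rfl fun k _ => by rw [map_mul, hσi, mul_comm]
  ext i j
  rw [stdH_cols]
  fin_cases i <;> fin_cases j <;>
    simp only [Fin.zero_eta, Fin.mk_one, Fin.reduceFinMk, sy.col0_vec, sy.col1_vec, sy.col2_vec, Matrix.one_apply]
  all_goals first
    | (rw [← sy.ev_herm]; simp [h00, h11, h22, h01, h02, h12, sy.ev_one, sy.ev_zero]; done)
    | (rw [hc, ← sy.ev_herm]; simp [h01, h02, h12, sy.ev_zero])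

theorem exists_mem_SG (sy : Sys p σ) (hσ : ∀ x, σ x = x ^ p) (hσi : ∀ a, σ (σ a) = a) {m : M3}
    (h : isSU p m = true) : ∃ g ∈ SG F p, mat g = sy.mtx m := by
  simp only [isSU, Bool.and_eq_true, beq_iff_eq] at h
  have hd : (sy.mtx m).det = 1 := by rw [← sy.ev_det, h.2, sy.ev_one]
  obtain ⟨g, hg⟩ := isUnit_of_det (A := sy.mtx m) (by rw [hd]; exact one_ne_zero)
  exact ⟨g, (mem_SG_iff hσ).2 ⟨by rw [mat, hg]; exact act_eq_one_of_ortho sy hσi h.1, by rw [mat, hg]; exact hd⟩, hg⟩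

/-- A matrix carries each of the points to a point. -/
def Pres (sy : Sys p σ) (S : List V) (X : Matrix (Fin 3) (Fin 3) F) : Prop :=
  ∀ v ∈ S, ∃ w ∈ S, ∃ c : F, c ≠ 0 ∧ X *ᵥ sy.vec v = c • sy.vec w

theorem pres_of_check (sy : Sys p σ) {S : List V} (hS : (S.all fun v => small p v) = true) {m : M3}
    (h : pres p S m = true) : Pres sy S (sy.mtx m) := fun _ hv => sy.exists_move hS h hv

theorem Pres.mul {sy : Sys p σ} {S : List V} {X Y : Matrix (Fin 3) (Fin 3) F} (hX : Pres sy S X) (hY : Pres sy S Y) :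
    Pres sy S (X * Y) := by
  intro v hv
  obtain ⟨w, hw, c, hc, e⟩ := hY v hv
  obtain ⟨u, hu, d, hd, e'⟩ := hX w hw
  exact ⟨u, hu, c * d, mul_ne_zero hc hd, by rw [← Matrix.mulVec_mulVec, e, Matrix.mulVec_smul, e', smul_smul]⟩

theorem pres_one (sy : Sys p σ) (S : List V) : Pres sy S 1 := fun v hv => ⟨v, hv, 1, one_ne_zero, by simp⟩

theorem Pres.smul {sy : Sys p σ} {S : List V} {X : Matrix (Fin 3) (Fin 3) F} (hX : Pres sy S X) {a : F} (ha : a ≠ 0) :
    Pres sy S (a • X) := by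
  intro v hv
  obtain ⟨w, hw, c, hc, e⟩ := hX v hv
  exact ⟨w, hw, a * c, mul_ne_zero ha hc, by rw [Matrix.smul_mulVec, e, smul_smul]⟩

theorem Pres.pow {sy : Sys p σ} {S : List V} {X : Matrix (Fin 3) (Fin 3) F} (hX : Pres sy S X) (n : ℕ) :
    Pres sy S (X ^ n) := by
  induction n with
  | zero => rw [pow_zero]; exact pres_one sy S
  | succ n ih => rw [pow_succ]; exact ih.mul hX

/-- The group of elements carrying points to points. -/
def stab [Finite F] (sy : Sys p σ) (S : List V) : Subgroup (GL (Fin 3) F) :=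
  { carrier := {g | Pres sy S (mat g)}
    one_mem' := pres_one sy S
    mul_mem' := fun {a b} ha hb => by
      show Pres sy S (mat a * mat b)
      exact Pres.mul ha hb
    inv_mem' := fun {a} ha => by
      have h0 : 0 < orderOf a := orderOf_pos a
      have e : a⁻¹ = a ^ (orderOf a - 1) := by
        rw [inv_eq_iff_mul_eq_one, ← pow_succ', Nat.sub_add_cancel h0, pow_orderOf_eq_one]
      show Pres sy S (mat a⁻¹)
      rw [e, mat, Units.val_pow_eq_pow_val]
      exact Pres.pow ha _ }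

/-- A maximal subgroup inside a conjugate of the stabiliser contains the conjugate of every element of it. -/
theorem mem_of_le_stab [Finite F] (sy : Sys p σ) (hσ : ∀ x, σ x = x ^ p) (hσi : ∀ a, σ (σ a) = a) {S : List V}
    {mo : M3} (hout : (isSU p mo && escapes p S mo) = true) {H : Subgroup (GL (Fin 3) F)}
    (hH : IsMaximalIn (SG F p) H) {B : GL (Fin 3) F} (hB : act σ 1 (mat B) = 1)
    (hHL : ∀ h ∈ H, Pres sy S (mat (B⁻¹ * h * B))) {g : GL (Fin 3) F} (hg : g ∈ SG F p) (hgS : Pres sy S (mat g)) :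
    B * g * B⁻¹ ∈ H := by
  have hB' : act σ 1 (mat B⁻¹) = 1 := by
    have h1 : act σ (act σ 1 (mat B)) (mat B⁻¹) = act σ 1 (mat B * mat B⁻¹) := (act_mul σ 1 _ _).symm
    rw [hB, mat_mul_inv] at h1
    rw [h1, act, Matrix.transpose_one, one_mul, one_mul, Matrix.map_one σ (map_zero σ) (map_one σ)]
  have hconj : ∀ x ∈ SG F p, B * x * B⁻¹ ∈ SG F p := by
    intro x hx
    obtain ⟨h1, h2⟩ := (mem_SG_iff hσ).1 hx
    refine (mem_SG_iff hσ).2 ⟨?_, ?_⟩
    · rw [mat, Units.val_mul, Units.val_mul, act_mul, act_mul, hB, h1, hB']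
    · rw [mat, Units.val_mul, Units.val_mul, Matrix.det_mul, Matrix.det_mul, h2, mul_one, ← Matrix.det_mul,
        show (B : Matrix (Fin 3) (Fin 3) F) * ((B⁻¹ : GL (Fin 3) F) : Matrix (Fin 3) (Fin 3) F) = 1 from mat_mul_inv B,
        Matrix.det_one]
  simp only [Bool.and_eq_true] at hout
  obtain ⟨go, hgo, hgom⟩ := exists_mem_SG sy hσ hσi hout.1
  have hnot : ¬ SG F p ≤ (stab sy S).map (MulAut.conj B).toMonoidHom := by
    intro hle
    obtain ⟨x, hx, e⟩ := hle (hconj go hgo)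
    have hxg : x = go := by
      have e' : B * x * B⁻¹ = B * go * B⁻¹ := e
      exact mul_left_cancel (mul_right_cancel e')
    obtain ⟨v, hv, hne⟩ := sy.not_move hout.2
    obtain ⟨w, hw, c, -, e2⟩ := (show Pres sy S (mat go) from hxg ▸ hx) v hv
    exact hne w hw c (by rw [← hgom]; exact e2)
  have hle : H ≤ (stab sy S).map (MulAut.conj B).toMonoidHom := by
    intro h hh
    refine ⟨B⁻¹ * h * B, hHL h hh, ?_⟩
    show B * (B⁻¹ * h * B) * B⁻¹ = h
    group
  rw [eq_inf_of_maximal hH hle hnot]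
  exact Subgroup.mem_inf.2 ⟨⟨g, hgS, rfl⟩, hconj g hg⟩

end Cfsg.Agent.SUSmall
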