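import Cfsg.Agent.PrimeDim.SUThree

/-!
A computable model of the field with `p²` elements (`p = 3, 5`) and of three by three matrices over it.
-/

set_option autoImplicit false

namespace Cfsg.Agent.SUSmall

open Matrix Cfsg.Geo Cfsg.Agent.PrimeDim
open scoped MatrixGroups

/-- A coded vector. -/
abbrev V := ℕ × ℕ × ℕ

/-- A coded matrix, by rows. -/
abbrev M3 := V × V × V

section code

variable (p : ℕ)

def qa (a b : ℕ) : ℕ := (a % p + b % p) % p + p * ((a / p + b / p) % p)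
def qm (a b : ℕ) : ℕ := (a % p * (b % p) + 2 * (a / p * (b / p))) % p + p * ((a % p * (b / p) + a / p * (b % p)) % p)
def qb (a : ℕ) : ℕ := a % p + p * (((p - 1) * (a / p)) % p)
def qn (a : ℕ) : ℕ := qm p (p - 1) a
def dot (r v : V) : ℕ := qa p (qa p (qm p r.1 v.1) (qm p r.2.1 v.2.1)) (qm p r.2.2 v.2.2)
def mv (g : M3) (v : V) : V := (dot p g.1 v, dot p g.2.1 v, dot p g.2.2 v)
def smul (c : ℕ) (v : V) : V := (qm p c v.1, qm p c v.2.1, qm p c v.2.2)
def herm (u v : V) : ℕ := dot p u (qb p v.1, qb p v.2.1, qb p v.2.2)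
def col0 (g : M3) : V := (g.1.1, g.2.1.1, g.2.2.1)
def col1 (g : M3) : V := (g.1.2.1, g.2.1.2.1, g.2.2.2.1)
def col2 (g : M3) : V := (g.1.2.2, g.2.1.2.2, g.2.2.2.2)
def tr (g : M3) : M3 := (col0 g, col1 g, col2 g)
def mm (g h : M3) : M3 := (mv p (tr h) g.1, mv p (tr h) g.2.1, mv p (tr h) g.2.2)
def ident : M3 := ((1, 0, 0), (0, 1, 0), (0, 0, 1))
def det3 (g : M3) : ℕ :=
  qa p (qa p (qm p g.1.1 (qa p (qm p g.2.1.2.1 g.2.2.2.2) (qn p (qm p g.2.1.2.2 g.2.2.2.1))))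
    (qm p g.1.2.1 (qa p (qm p g.2.1.2.2 g.2.2.1) (qn p (qm p g.2.1.1 g.2.2.2.2)))))
    (qm p g.1.2.2 (qa p (qm p g.2.1.1 g.2.2.2.1) (qn p (qm p g.2.1.2.1 g.2.2.1))))
def ortho (g : M3) : Bool :=
  herm p (col0 g) (col0 g) == 1 && herm p (col1 g) (col1 g) == 1 && herm p (col2 g) (col2 g) == 1 &&
    herm p (col0 g) (col1 g) == 0 && herm p (col0 g) (col2 g) == 0 && herm p (col1 g) (col2 g) == 0
def isSU (g : M3) : Bool := ortho p g && det3 p g == 1
def lead (v : V) : ℕ := if v.1 = 0 then (if v.2.1 = 0 then v.2.2 else v.2.1) else v.1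
def qinv (a : ℕ) : ℕ := qm p (qb p a) (qm p a (qb p a) ^ (p - 2) % p)
def code (v : V) : ℕ := (v.1 * (p * p) + v.2.1) * (p * p) + v.2.2
def mask (S : List V) : ℕ := S.foldr (fun v N => N ||| 2 ^ code p v) 0
def small (v : V) : Bool := decide (v.1 < p * p) && decide (v.2.1 < p * p) && decide (v.2.2 < p * p)
def lands (N : ℕ) (u : V) : Bool :=
  qm p (lead u) (qinv p (lead u)) == 1 && small p (smul p (qinv p (lead u)) u) && N.testBit (code p (smul p (qinv p (lead u)) u))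
def pres (S : List V) (g : M3) : Bool := S.all fun v => lands p (mask p S) (mv p g v)
def escapes (S : List V) (g : M3) : Bool :=
  S.any fun v => S.all fun w => (List.range (p * p)).all fun c => smul p c w != mv p g v

end code

theorem lt_sq_of_digits {p u w : ℕ} (hp : 0 < p) (hu : u < p) (hw : w < p) : u + p * w < p * p := by
  have h : p * (w + 1) ≤ p * p := Nat.mul_le_mul_left p hw
  rw [Nat.mul_add, Nat.mul_one] at h
  omega

variable {F : Type*} [Field F]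

/-- The data identifying the codes with the field. -/
structure Sys (p : ℕ) (σ : F ≃+* F) where
  t : F
  prime : p.Prime
  odd : p ≠ 2
  char : CharP F p
  tt : t * t = 2
  bar : σ t = -t
  t_ne : t ≠ 0
  surj : ∀ x : F, ∃ a < p * p, ((a % p : ℕ) : F) + ((a / p : ℕ) : F) * t = x

variable {p : ℕ} {σ : F ≃+* F} (sy : Sys p σ)

/-- The element of `F` with a given code. -/
def Sys.ev (a : ℕ) : F := ((a % p : ℕ) : F) + ((a / p : ℕ) : F) * sy.t

include sy in
theorem Sys.ev_split {u w : ℕ} (hu : u < p) : sy.ev (u + p * w) = (u : F) + (w : F) * sy.t := by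
  unfold Sys.ev
  rw [Nat.add_mul_mod_self_left, Nat.mod_eq_of_lt hu, Nat.add_mul_div_left _ _ sy.prime.pos, Nat.div_eq_of_lt hu,
    zero_add]

include sy in
theorem Sys.cast_mod (n : ℕ) : ((n % p : ℕ) : F) = n := by
  haveI := sy.char
  exact ((CharP.natCast_eq_natCast F p).2 (Nat.mod_modEq n p))

theorem Sys.ev_add (a b : ℕ) : sy.ev (qa p a b) = sy.ev a + sy.ev b := by
  rw [qa, sy.ev_split (Nat.mod_lt _ sy.prime.pos), sy.cast_mod, sy.cast_mod]
  simp only [Sys.ev, Nat.cast_add]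
  ring

theorem Sys.ev_mul (a b : ℕ) : sy.ev (qm p a b) = sy.ev a * sy.ev b := by
  rw [qm, sy.ev_split (Nat.mod_lt _ sy.prime.pos), sy.cast_mod, sy.cast_mod]
  simp only [Sys.ev, Nat.cast_add, Nat.cast_mul, Nat.cast_ofNat]
  linear_combination -(((a / p : ℕ) : F) * ((b / p : ℕ) : F)) * sy.tt

theorem Sys.ev_bar (a : ℕ) : sy.ev (qb p a) = σ (sy.ev a) := by
  haveI := sy.char
  rw [qb, sy.ev_split (Nat.mod_lt _ sy.prime.pos), sy.cast_mod ((p - 1) * (a / p))]
  simp only [Sys.ev, map_add, map_mul, map_natCast, sy.bar, Nat.cast_mul, Nat.cast_sub sy.prime.one_le,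
    CharP.cast_eq_zero, Nat.cast_one]
  ring

theorem Sys.ev_zero : sy.ev 0 = 0 := by simp [Sys.ev]

theorem Sys.ev_one : sy.ev 1 = 1 := by simp [Sys.ev, Nat.mod_eq_of_lt sy.prime.one_lt, Nat.div_eq_of_lt sy.prime.one_lt]

theorem Sys.ev_neg (a : ℕ) : sy.ev (qn p a) = -sy.ev a := by
  haveI := sy.char
  have h : sy.ev (p - 1) = -1 := by
    have hlt : p - 1 < p := by have := sy.prime.pos; omega
    simp [Sys.ev, Nat.mod_eq_of_lt hlt, Nat.div_eq_of_lt hlt, Nat.cast_sub sy.prime.one_le]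
  rw [qn, sy.ev_mul, h, neg_one_mul]

include sy in
theorem Sys.two_ne : (2 : F) ≠ 0 := by
  haveI := sy.char
  rw [show (2 : F) = ((2 : ℕ) : F) by norm_num, Ne, CharP.cast_eq_zero_iff F p]
  exact fun h => sy.odd ((Nat.prime_dvd_prime_iff_eq sy.prime Nat.prime_two).1 h)

theorem Sys.ev_inj {a b : ℕ} (ha : a < p * p) (hb : b < p * p) (h : sy.ev a = sy.ev b) : a = b := by
  haveI := sy.char
  have hs := congrArg σ h
  simp only [Sys.ev, map_add, map_mul, map_natCast, sy.bar] at hs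
  simp only [Sys.ev] at h
  have h1 : ((a / p : ℕ) : F) = ((b / p : ℕ) : F) :=
    mul_left_cancel₀ (mul_ne_zero sy.two_ne sy.t_ne) (by linear_combination h - hs)
  have h0 : ((a % p : ℕ) : F) = ((b % p : ℕ) : F) := by rw [h1] at h; exact add_right_cancel h
  rw [CharP.natCast_eq_natCast F p, Nat.ModEq] at h0 h1
  rw [Nat.mod_mod, Nat.mod_mod] at h0
  rw [Nat.mod_eq_of_lt (Nat.div_lt_of_lt_mul ha), Nat.mod_eq_of_lt (Nat.div_lt_of_lt_mul hb)] at h1
  rw [← Nat.mod_add_div a p, ← Nat.mod_add_div b p, h0, h1]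

theorem Sys.ev_ne_zero {a : ℕ} (ha : a < p * p) (h : a ≠ 0) : sy.ev a ≠ 0 := fun e =>
  h (sy.ev_inj ha (Nat.mul_pos sy.prime.pos sy.prime.pos) (e.trans sy.ev_zero.symm))

theorem Sys.exists_code (x : F) : ∃ a, a < p * p ∧ sy.ev a = x := sy.surj x

/-- A vector from its code. -/
def Sys.vec (v : V) : Fin 3 → F := ![sy.ev v.1, sy.ev v.2.1, sy.ev v.2.2]

/-- A matrix from its code. -/
def Sys.mtx (g : M3) : Matrix (Fin 3) (Fin 3) F := Matrix.of ![sy.vec g.1, sy.vec g.2.1, sy.vec g.2.2]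

theorem Sys.ev_dot (r v : V) : sy.ev (dot p r v) = sy.vec r ⬝ᵥ sy.vec v := by
  simp [dot, dotProduct, Fin.sum_univ_three, Sys.vec, sy.ev_add, sy.ev_mul]

theorem Sys.vec_mv (g : M3) (v : V) : sy.vec (mv p g v) = sy.mtx g *ᵥ sy.vec v := by
  funext i
  fin_cases i <;> simp [mv, Sys.vec, Sys.mtx, sy.ev_dot, Matrix.mulVec]

theorem Sys.vec_smul (c : ℕ) (v : V) : sy.vec (smul p c v) = sy.ev c • sy.vec v := by
  funext i
  fin_cases i <;> simp [smul, Sys.vec, sy.ev_mul]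

theorem Sys.ev_herm (u v : V) : sy.ev (herm p u v) = stdH σ (sy.vec u) (sy.vec v) := by
  simp [herm, sy.ev_dot, stdH_eq, dotProduct, Fin.sum_univ_three, Sys.vec, sy.ev_bar]

theorem Sys.mtx_mul (g h : M3) : sy.mtx (mm p g h) = sy.mtx g * sy.mtx h := by
  ext i j
  fin_cases i <;> fin_cases j <;>
    simp [mm, mv, tr, col0, col1, col2, Sys.mtx, Sys.vec, sy.ev_dot, Matrix.mul_apply, dotProduct, Fin.sum_univ_three,
      mul_comm]

theorem Sys.mtx_ident : sy.mtx ident = 1 := by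
  ext i j
  fin_cases i <;> fin_cases j <;> simp [ident, Sys.mtx, Sys.vec, sy.ev_zero, sy.ev_one]

theorem Sys.ev_det (g : M3) : sy.ev (det3 p g) = (sy.mtx g).det := by
  simp [det3, sy.ev_add, sy.ev_mul, sy.ev_neg, Matrix.det_fin_three, Sys.mtx, Sys.vec]
  ring

theorem Sys.exists_vec (x : Fin 3 → F) :
    ∃ v : V, v.1 < p * p ∧ v.2.1 < p * p ∧ v.2.2 < p * p ∧ sy.vec v = x := by
  obtain ⟨a, ha, e0⟩ := sy.exists_code (x 0)
  obtain ⟨b, hb, e1⟩ := sy.exists_code (x 1)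
  obtain ⟨c, hc, e2⟩ := sy.exists_code (x 2)
  refine ⟨(a, b, c), ha, hb, hc, ?_⟩
  funext i
  fin_cases i <;> simp [Sys.vec, e0, e1, e2]

theorem Sys.exists_mtx (X : Matrix (Fin 3) (Fin 3) F) :
    ∃ g : M3, sy.mtx g = X ∧ g.1.1 < p * p ∧ g.1.2.1 < p * p ∧ g.1.2.2 < p * p ∧ g.2.1.1 < p * p ∧
      g.2.1.2.1 < p * p ∧ g.2.1.2.2 < p * p ∧ g.2.2.1 < p * p ∧ g.2.2.2.1 < p * p ∧ g.2.2.2.2 < p * p := by
  obtain ⟨r0, a0, b0, c0, e0⟩ := sy.exists_vec (X 0)
  obtain ⟨r1, a1, b1, c1, e1⟩ := sy.exists_vec (X 1)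
  obtain ⟨r2, a2, b2, c2, e2⟩ := sy.exists_vec (X 2)
  refine ⟨(r0, r1, r2), ?_, a0, b0, c0, a1, b1, c1, a2, b2, c2⟩
  ext i j
  fin_cases i <;> simp [Sys.mtx, e0, e1, e2]

theorem Sys.col0_vec (g : M3) : (fun i => sy.mtx g i 0) = sy.vec (col0 g) := by
  funext i; fin_cases i <;> simp [Sys.mtx, Sys.vec, col0]

theorem Sys.col1_vec (g : M3) : (fun i => sy.mtx g i 1) = sy.vec (col1 g) := by
  funext i; fin_cases i <;> simp [Sys.mtx, Sys.vec, col1]

theorem Sys.col2_vec (g : M3) : (fun i => sy.mtx g i 2) = sy.vec (col2 g) := by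
  funext i; fin_cases i <;> simp [Sys.mtx, Sys.vec, col2]

theorem exists_sys [Fintype F] (hp : p = 3 ∨ p = 5) (hF : Fintype.card F = p ^ 2) (hσ : ∀ x, σ x = x ^ p) :
    Nonempty (Sys p σ) := by
  have hpp : p.Prime := by rcases hp with rfl | rfl <;> norm_num
  haveI := Fact.mk hpp
  haveI hc : CharP F p := by
    obtain ⟨l, hl⟩ := CharP.exists F
    obtain ⟨n, hlp, hn⟩ := FiniteField.card F l
    have h1 : l ∣ p ^ 2 := hF ▸ hn ▸ dvd_pow_self l n.ne_zero
    rwa [← (Nat.prime_dvd_prime_iff_eq hlp hpp).1 (hlp.dvd_of_dvd_pow h1)]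
  have hodd : ringChar F ≠ 2 := by
    rw [ringChar.eq F p]; omega
  have h2 : (2 : F) ≠ 0 := Ring.two_ne_zero hodd
  have hnat : ∀ a b : ℕ, a % p = b % p → (a : F) = b := fun a b h => (CharP.natCast_eq_natCast F p).2 h
  obtain ⟨t, ht⟩ : IsSquare (2 : F) := by
    rw [FiniteField.isSquare_iff hodd h2, hF, show (2 : F) = ((2 : ℕ) : F) by norm_num, ← Nat.cast_pow,
      ← Nat.cast_one]
    refine hnat _ _ ?_
    rcases hp with rfl | rfl <;> rfl
  have htne : t ≠ 0 := fun e => h2 (by rw [ht, e, mul_zero])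
  have hbar : σ t = -t := by
    rw [hσ]
    rcases hp with rfl | rfl
    · have h3 : ((3 : ℕ) : F) = 0 := CharP.cast_eq_zero F 3
      push_cast at h3
      linear_combination t * h3 - t * ht
    · have h5 : ((5 : ℕ) : F) = 0 := CharP.cast_eq_zero F 5
      push_cast at h5
      linear_combination t * h5 - (t * t + 2) * t * ht
  let f : Fin (p * p) → F := fun a => ((a.1 % p : ℕ) : F) + ((a.1 / p : ℕ) : F) * t
  have hinj : Function.Injective f := by
    intro a b h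
    simp only [f] at h
    have hs := congrArg σ h
    simp only [map_add, map_mul, map_natCast, hbar] at hs
    have h1 : ((a.1 / p : ℕ) : F) = ((b.1 / p : ℕ) : F) :=
      mul_left_cancel₀ (mul_ne_zero h2 htne) (by linear_combination h - hs)
    have h0 : ((a.1 % p : ℕ) : F) = ((b.1 % p : ℕ) : F) := by rw [h1] at h; exact add_right_cancel h
    rw [CharP.natCast_eq_natCast F p, Nat.ModEq] at h0 h1
    rw [Nat.mod_mod, Nat.mod_mod] at h0
    rw [Nat.mod_eq_of_lt (Nat.div_lt_of_lt_mul a.2), Nat.mod_eq_of_lt (Nat.div_lt_of_lt_mul b.2)] at h1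
    refine Fin.ext ?_
    rw [← Nat.mod_add_div a.1 p, ← Nat.mod_add_div b.1 p, h0, h1]
  have hbij := (Fintype.bijective_iff_injective_and_card f).2 ⟨hinj, by rw [Fintype.card_fin, hF, sq]⟩
  refine ⟨{ t := t, prime := hpp, odd := by omega, char := hc, tt := ht.symm, bar := hbar, t_ne := htne,
            surj := fun x => ?_ }⟩
  obtain ⟨a, ha⟩ := hbij.2 x
  exact ⟨a.1, a.2, ha⟩

theorem mask_testBit {p : ℕ} {S : List V} {n : ℕ} (h : (mask p S).testBit n = true) : ∃ v ∈ S, code p v = n := by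
  induction S with
  | nil => simp [mask] at h
  | cons a S ih =>
    rw [show mask p (a :: S) = mask p S ||| 2 ^ code p a from rfl, Nat.testBit_or, Bool.or_eq_true] at h
    rcases h with h | h
    · obtain ⟨v, hv, e⟩ := ih h
      exact ⟨v, List.mem_cons_of_mem _ hv, e⟩
    · rw [Nat.testBit_two_pow] at h
      exact ⟨a, List.mem_cons_self, of_decide_eq_true h⟩

theorem code_inj {p : ℕ} {v w : V} (hv : small p v = true) (hw : small p w = true) (h : code p v = code p w) :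
    v = w := by
  simp only [small, Bool.and_eq_true, decide_eq_true_eq] at hv hw
  obtain ⟨a, b, c⟩ := v
  obtain ⟨a', b', c'⟩ := w
  simp only [code] at h hv hw
  have hb : 0 < p * p := lt_of_le_of_lt (Nat.zero_le _) hv.2
  have h1 := congrArg (· % (p * p)) h
  simp only [Nat.mul_add_mod_self_right, Nat.mod_eq_of_lt hv.2, Nat.mod_eq_of_lt hw.2] at h1
  subst h1
  have h2 : a * (p * p) + b = a' * (p * p) + b' := Nat.eq_of_mul_eq_mul_right hb (Nat.add_right_cancel h)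
  have h3 := congrArg (· % (p * p)) h2
  simp only [Nat.mul_add_mod_self_right, Nat.mod_eq_of_lt hv.1.2, Nat.mod_eq_of_lt hw.1.2] at h3
  subst h3
  rw [Nat.eq_of_mul_eq_mul_right hb (Nat.add_right_cancel h2)]

theorem Sys.exists_move {S : List V} {g : M3} (hS : (S.all fun v => small p v) = true) (h : pres p S g = true)
    {v : V} (hv : v ∈ S) : ∃ w ∈ S, ∃ c : F, c ≠ 0 ∧ sy.mtx g *ᵥ sy.vec v = c • sy.vec w := by
  have h1 := List.all_eq_true.1 h v hv
  simp only [lands, Bool.and_eq_true, beq_iff_eq] at h1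
  obtain ⟨⟨hinv, hs⟩, hbit⟩ := h1
  obtain ⟨w, hw, hcode⟩ := mask_testBit hbit
  have hwe := code_inj (List.all_eq_true.1 hS w hw) hs hcode
  have h2 : sy.ev (lead (mv p g v)) * sy.ev (qinv p (lead (mv p g v))) = 1 := by rw [← sy.ev_mul, hinv, sy.ev_one]
  refine ⟨w, hw, sy.ev (lead (mv p g v)), fun e => ?_, ?_⟩
  · rw [e, zero_mul] at h2; exact zero_ne_one h2
  · rw [← sy.vec_mv, hwe, sy.vec_smul, smul_smul, h2, one_smul]

theorem Sys.not_move {S : List V} {g : M3} (h : escapes p S g = true) :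
    ∃ v ∈ S, ∀ w ∈ S, ∀ c : F, sy.mtx g *ᵥ sy.vec v ≠ c • sy.vec w := by
  obtain ⟨v, hv, h1⟩ := List.any_eq_true.1 h
  refine ⟨v, hv, fun w hw x => ?_⟩
  obtain ⟨k, hk, rfl⟩ := sy.exists_code x
  have h2 := List.all_eq_true.1 (List.all_eq_true.1 h1 w hw) k (List.mem_range.2 hk)
  simp only [bne_iff_ne, ne_eq] at h2
  intro e
  refine h2 ?_
  rw [← sy.vec_mv, ← sy.vec_smul] at e
  have hlt : ∀ a b : ℕ, qa p a b < p * p := fun a b => lt_sq_of_digits sy.prime.pos (Nat.mod_lt _ sy.prime.pos)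
    (Nat.mod_lt _ sy.prime.pos)
  have hlt' : ∀ a b : ℕ, qm p a b < p * p := fun a b => lt_sq_of_digits sy.prime.pos (Nat.mod_lt _ sy.prime.pos)
    (Nat.mod_lt _ sy.prime.pos)
  have e0 := congrFun e 0
  have e1 := congrFun e 1
  have e2 := congrFun e 2
  simp only [Sys.vec, mv, smul, Matrix.cons_val_zero, Matrix.cons_val_one, Matrix.cons_val] at e0 e1 e2
  exact Prod.ext (sy.ev_inj (hlt' _ _) (hlt _ _) e0.symm)
    (Prod.ext (sy.ev_inj (hlt' _ _) (hlt _ _) e1.symm) (sy.ev_inj (hlt' _ _) (hlt _ _) e2.symm))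

end Cfsg.Agent.SUSmall
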