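import Cfsg.Agent.SUSmall.Frame
import Cfsg.Agent.SUSmall.Check5

/-!
Monomial isometries of the three-dimensional unitary space and the exception at `q = 5`.
-/

set_option autoImplicit false

namespace Cfsg.Agent.SUSmall

open Matrix Cfsg.Geo Cfsg.Agent.PrimeDim
open scoped MatrixGroups

variable {F : Type*} [Field F] {p : ℕ} {σ : F ≃+* F}

/-- A coded matrix from its entries. -/
def mkM (f : Fin 3 → Fin 3 → ℕ) : M3 :=
  ((f 0 0, f 0 1, f 0 2), (f 1 0, f 1 1, f 1 2), (f 2 0, f 2 1, f 2 2))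

theorem Sys.mtx_mkM (sy : Sys p σ) (f : Fin 3 → Fin 3 → ℕ) (i j : Fin 3) : sy.mtx (mkM f) i j = sy.ev (f i j) := by
  fin_cases i <;> fin_cases j <;> simp [mkM, Sys.mtx, Sys.vec]

theorem qa_lt (sy : Sys p σ) (a b : ℕ) : qa p a b < p * p :=
  lt_sq_of_digits sy.prime.pos (Nat.mod_lt _ sy.prime.pos) (Nat.mod_lt _ sy.prime.pos)

theorem qm_lt (sy : Sys p σ) (a b : ℕ) : qm p a b < p * p :=
  lt_sq_of_digits sy.prime.pos (Nat.mod_lt _ sy.prime.pos) (Nat.mod_lt _ sy.prime.pos)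

theorem one_lt_sq (sy : Sys p σ) : 1 < p * p := lt_of_lt_of_le sy.prime.one_lt (Nat.le_mul_self p)

theorem Sys.mtx_inj_mm (sy : Sys p σ) {a b c d : M3} (h : sy.mtx (mm p a b) = sy.mtx (mm p c d)) :
    mm p a b = mm p c d := by
  have e : ∀ i j, sy.mtx (mm p a b) i j = sy.mtx (mm p c d) i j := fun i j => by rw [h]
  have := e 0 0; have := e 0 1; have := e 0 2; have := e 1 0; have := e 1 1; have := e 1 2
  have := e 2 0; have := e 2 1; have := e 2 2
  simp only [mm, mv, Sys.mtx, Sys.vec, Matrix.of_apply, Matrix.cons_val_zero, Matrix.cons_val_one, Matrix.cons_val] at *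
  simp only [mm, mv, Prod.mk.injEq]
  refine ⟨⟨?_, ?_, ?_⟩, ⟨?_, ?_, ?_⟩, ?_, ?_, ?_⟩
  all_goals exact sy.ev_inj (qa_lt sy _ _) (qa_lt sy _ _) (by assumption)

theorem det3_eq_one (sy : Sys p σ) {m : M3} (h : (sy.mtx m).det = 1) : det3 p m = 1 :=
  sy.ev_inj (qa_lt sy _ _) (one_lt_sq sy) (by rw [sy.ev_det, h, sy.ev_one])

theorem perm_cases (π : Equiv.Perm (Fin 3)) (a : Fin 3 → ℕ) :
    ∃ x y z : Fin 3, mkM (fun j i => if j = π i then a i else 0) ∈ monoShapes (a x) (a y) (a z) := by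
  refine ⟨π.symm 0, π.symm 1, π.symm 2, ?_⟩
  obtain ⟨r0, e0⟩ : ∃ r, π 0 = r := ⟨_, rfl⟩
  obtain ⟨r1, e1⟩ : ∃ r, π 1 = r := ⟨_, rfl⟩
  obtain ⟨r2, e2⟩ : ∃ r, π 2 = r := ⟨_, rfl⟩
  have n01 : r0 ≠ r1 := fun e => absurd (π.injective (e0.trans (e.trans e1.symm))) (by decide)
  have n02 : r0 ≠ r2 := fun e => absurd (π.injective (e0.trans (e.trans e2.symm))) (by decide)
  have n12 : r1 ≠ r2 := fun e => absurd (π.injective (e1.trans (e.trans e2.symm))) (by decide)
  have s0 := π.symm_apply_eq.2 e0.symm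
  have s1 := π.symm_apply_eq.2 e1.symm
  have s2 := π.symm_apply_eq.2 e2.symm
  fin_cases r0 <;> fin_cases r1 <;> fin_cases r2 <;> first
    | omega
    | exact absurd rfl n01
    | exact absurd rfl n02
    | exact absurd rfl n12
    | simp_all [mkM, monoShapes]

theorem mono_code [Finite F] (sy : Sys p σ) {X : Matrix (Fin 3) (Fin 3) F} (hX : act σ 1 X = 1) (hd : X.det = 1)
    (π : Equiv.Perm (Fin 3)) (c : Fin 3 → F) (hc : ∀ i, (fun j => X j i) = c i • (Pi.single (π i) 1 : Fin 3 → F)) :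
    ∃ m ∈ monoMats p, sy.mtx m = X := by
  choose a ha he using fun i => sy.exists_code (c i)
  have hent : ∀ i j, X j i = if j = π i then c i else 0 := fun i j => by
    rw [show X j i = (c i • (Pi.single (π i) 1 : Fin 3 → F)) j from congrFun (hc i) j]
    simp [Pi.single_apply]
  have hm : sy.mtx (mkM (fun j i => if j = π i then a i else 0)) = X := by
    ext j i
    rw [sy.mtx_mkM, hent]
    split_ifs
    · exact he i
    · exact sy.ev_zero
  have hn : ∀ i, a i ∈ norms p := fun i => by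
    refine List.mem_filter.2 ⟨List.mem_range.2 (ha i), beq_iff_eq.2 ?_⟩
    refine sy.ev_inj (qm_lt sy _ _) (one_lt_sq sy) ?_
    rw [sy.ev_mul, sy.ev_bar, he, sy.ev_one]
    have h1 := congrFun (congrFun hX i) i
    rw [stdH_cols, hc, stdH_eq, Finset.sum_eq_single (π i) (fun b _ hb => by simp [hb]) (by simp)] at h1
    simpa using h1
  obtain ⟨x, y, z, hmem⟩ := perm_cases π a
  refine ⟨_, List.mem_filter.2 ⟨?_, beq_iff_eq.2 (det3_eq_one sy (hm ▸ hd))⟩, hm⟩
  exact List.mem_flatMap.2 ⟨_, hn x, List.mem_flatMap.2 ⟨_, hn y, List.mem_flatMap.2 ⟨_, hn z, hmem⟩⟩⟩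

theorem Sys.mtx_msmul (sy : Sys p σ) (r : ℕ) (m : M3) : sy.mtx (msmul p r m) = sy.ev r • sy.mtx m := by
  ext i j
  fin_cases i <;> fin_cases j <;> simp [msmul, smul, Sys.mtx, Sys.vec, sy.ev_mul]

variable {σ : F ≃+* F}

theorem pres_of_isMono (sy : Sys 5 σ) {m : M3} (hdet : (sy.mtx m).det ≠ 0) (h : isMono 5 m = true) :
    Pres sy pts5 (sy.mtx m) := by
  simp only [isMono, Bool.and_eq_true, beq_iff_eq, List.contains_iff_mem] at h
  obtain ⟨⟨hP, hD⟩, he⟩ := h
  have hb := List.all_eq_true.1 mono5_ok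
  have hr : sy.ev (rowSum 5 m.1) ≠ 0 := fun e => hdet (by
    rw [← he, sy.mtx_msmul, e, zero_smul, Matrix.det_zero])
  rw [← he, sy.mtx_msmul, sy.mtx_mul]
  exact ((pres_of_check sy small5 (hb _ hD)).mul (pres_of_check sy small5 (hb _ hP))).smul hr

theorem pres_mono [Finite F] (sy : Sys 5 σ) {X : Matrix (Fin 3) (Fin 3) F} (hX : act σ 1 X = 1) (hd : X.det = 1)
    (π : Equiv.Perm (Fin 3)) (c : Fin 3 → F) (hc : ∀ i, (fun j => X j i) = c i • (Pi.single (π i) 1 : Fin 3 → F)) :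
    Pres sy pts5 X := by
  obtain ⟨m, hm, rfl⟩ := mono_code sy hX hd π c hc
  have h := List.all_eq_true.1 factor5_ok m hm
  exact pres_of_isMono sy (by rw [hd]; exact one_ne_zero) h

/-- In `SU₃(5)` the stabiliser of an orthogonal frame is not maximal. -/
theorem decomp_false [Fintype F] (hF : Fintype.card F = 5 ^ 2) {H : Subgroup (GL (Fin 3) F)}
    (hH : IsMaximalIn (SG F 5) H) (b : Module.Basis (Fin 3) F (Fin 3 → F))
    (horth : ∀ i j, hermForm 3 F 5 (b i) (b j) = if i = j then 1 else 0)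
    (hperm : ∀ h ∈ H, ∀ i, ∃ (j : Fin 3) (c : F), mat h *ᵥ b i = c • b j) : False := by
  classical
  obtain ⟨σ, hσ, hbar⟩ := exists_bar hF
  obtain ⟨sy⟩ := exists_sys (Or.inr rfl) hF hσ
  set B := ofBasis b with hBdef
  have hB : act σ 1 (mat B) = 1 := by
    ext i j
    rw [← formG_single σ (act σ 1 (mat B)) i j, ← formG_mulVec, ofBasis_single, ofBasis_single,
      ← hermForm_eq_formG hσ, horth, Matrix.one_apply]
  have hHL : ∀ h ∈ H, Pres sy pts5 (mat (B⁻¹ * h * B)) := by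
    intro h hh
    obtain ⟨h1, h2⟩ := (mem_SG_iff hσ).1 (hH.1.le hh)
    obtain ⟨π, c, -, hπ⟩ := exists_perm (hperm h hh)
    refine pres_mono sy ?_ ?_ π c fun i => ?_
    · have hB' : act σ 1 (mat B⁻¹) = 1 := by
        have h3 : act σ (act σ 1 (mat B)) (mat B⁻¹) = act σ 1 (mat B * mat B⁻¹) := (act_mul σ 1 _ _).symm
        rw [hB, mat_mul_inv] at h3
        rw [h3, act, Matrix.transpose_one, one_mul, one_mul, Matrix.map_one σ (map_zero σ) (map_one σ)]
      rw [mat, Units.val_mul, Units.val_mul, act_mul, act_mul, hB', h1, hB]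
    · rw [mat, Units.val_mul, Units.val_mul, Matrix.det_mul, Matrix.det_mul, mul_right_comm, ← Matrix.det_mul,
        show ((B⁻¹ : GL (Fin 3) F) : Matrix (Fin 3) (Fin 3) F) * (B : Matrix (Fin 3) (Fin 3) F) = 1 from mat_inv_mul B,
        Matrix.det_one, one_mul]
      exact h2
    · have h4 := conj_single b h (hπ i)
      rw [Matrix.mulVec_single_one] at h4
      exact h4
  have hin := Bool.and_eq_true_iff.1 in5_ok
  obtain ⟨g, hg, hgm⟩ := exists_mem_SG sy hσ hbar.involutive hin.1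
  have hgH := mem_of_le_stab sy hσ hbar.involutive out5_ok hH hB hHL hg
    (hgm ▸ pres_of_check sy small5 hin.2)
  obtain ⟨j, c, hc⟩ := hperm _ hgH 0
  have h4 := conj_single b _ hc
  rw [show B⁻¹ * (B * g * B⁻¹) * B = g by group, Matrix.mulVec_single_one, hgm] at h4
  have e0 : sy.mtx in5 0 0 = (c • (Pi.single j 1 : Fin 3 → F)) 0 := congrFun h4 0
  have e1 : sy.mtx in5 1 0 = (c • (Pi.single j 1 : Fin 3 → F)) 1 := congrFun h4 1
  have n0 : sy.mtx in5 0 0 ≠ 0 := by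
    simp only [Sys.mtx, Sys.vec, in5, Matrix.of_apply, Matrix.cons_val_zero]
    exact sy.ev_ne_zero (by norm_num) (by norm_num)
  have n1 : sy.mtx in5 1 0 ≠ 0 := by
    simp only [Sys.mtx, Sys.vec, in5, Matrix.of_apply, Matrix.cons_val_zero, Matrix.cons_val_one]
    exact sy.ev_ne_zero (by norm_num) (by norm_num)
  fin_cases j <;> simp at e0 e1 <;> first | exact n0 e0 | exact n1 e1

end Cfsg.Agent.SUSmall
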