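import Cfsg.Agent.SUSmall.Data

/-!
Diagonal ternary forms over the prime field are similar to the sum of three squares; finite checks.
-/

set_option autoImplicit false
set_option maxRecDepth 100000

namespace Cfsg.Agent.SUSmall

/-- The value at `u, v` of a diagonal form over the prime field. -/
def dform (p : ℕ) (w u v : V) : ℕ := (w.1 * u.1 * v.1 + w.2.1 * u.2.1 * v.2.1 + w.2.2 * u.2.2 * v.2.2) % p

def pvecs (p : ℕ) : List V :=
  (List.range p).flatMap fun a => (List.range p).flatMap fun b => (List.range p).map fun c => (a, b, c)

def sumSquaresCheck (p : ℕ) : Bool :=
  (List.range p).all fun i => (List.range p).all fun j => (List.range p).all fun k =>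
    i == 0 || j == 0 || k == 0 ||
      (pvecs p).any fun a => dform p (i, j, k) a a == i * j * k % p &&
        (pvecs p).any fun b => dform p (i, j, k) a b == 0 && dform p (i, j, k) b b == i * j * k % p &&
          (pvecs p).any fun c => dform p (i, j, k) a c == 0 && dform p (i, j, k) b c == 0 &&
            dform p (i, j, k) c c == i * j * k % p

theorem sumSquares3 : sumSquaresCheck 3 = true := by decide +kernel
theorem sumSquares5 : sumSquaresCheck 5 = true := by decide +kernel

theorem small_p3 : ((List.range (3 * 3)).all fun a => decide (qb 3 a % (3 * 3) = a % (3 * 3)) == decide (a / 3 = 0)) = true := by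
  decide +kernel

theorem realT5_orth : (realT5.all fun t => mm 5 t (tr t) == ident) = true := by decide +kernel

end Cfsg.Agent.SUSmall
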