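import Cfsg.Agent.SUSmall.Mono
import Cfsg.Agent.SUSmall.RealData
import Cfsg.Agent.SUSmall.Check3

/-!
The subfield subgroups of `SU₃(3)` and `SU₃(5)` are not maximal.
-/

set_option autoImplicit false

namespace Cfsg.Agent.SUSmall

open Matrix Cfsg.Geo Cfsg.Agent.PrimeDim
open scoped MatrixGroups

variable {F : Type*} [Field F] {p : ℕ} {σ : F ≃+* F}

theorem act_inv_one {B : GL (Fin 3) F} (hB : act σ 1 (mat B) = 1) : act σ 1 (mat B⁻¹) = 1 := by
  have h1 : act σ (act σ 1 (mat B)) (mat B⁻¹) = act σ 1 (mat B * mat B⁻¹) := (act_mul σ 1 _ _).symm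
  rw [hB, mat_mul_inv] at h1
  rw [h1, act, Matrix.transpose_one, one_mul, one_mul, Matrix.map_one σ (map_zero σ) (map_one σ)]

theorem conj_SG (hσ : ∀ x, σ x = x ^ p) {B h : GL (Fin 3) F} (hB : act σ 1 (mat B) = 1) (hh : h ∈ SG F p) :
    act σ 1 (mat (B⁻¹ * h * B)) = 1 ∧ (mat (B⁻¹ * h * B)).det = 1 := by
  obtain ⟨h1, h2⟩ := (mem_SG_iff hσ).1 hh
  refine ⟨?_, ?_⟩
  · rw [mat, Units.val_mul, Units.val_mul, act_mul, act_mul, act_inv_one hB, h1, hB]
  · rw [mat, Units.val_mul, Units.val_mul, Matrix.det_mul, Matrix.det_mul, mul_right_comm, ← Matrix.det_mul,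
      show ((B⁻¹ : GL (Fin 3) F) : Matrix (Fin 3) (Fin 3) F) * (B : Matrix (Fin 3) (Fin 3) F) = 1 from mat_inv_mul B,
      Matrix.det_one, one_mul]
    exact h2

theorem code_of_fixed (sy : Sys p σ) {a : ℕ} (ha : a < p * p) (h : σ (sy.ev a) = sy.ev a) : a < p := by
  haveI := sy.char
  simp only [Sys.ev, map_add, map_mul, map_natCast, sy.bar] at h
  have h0 : ((a / p : ℕ) : F) = 0 := by
    have : (2 * sy.t) * ((a / p : ℕ) : F) = 0 := by linear_combination -h
    exact (mul_eq_zero.1 this).resolve_left (mul_ne_zero sy.two_ne sy.t_ne)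
  rw [CharP.cast_eq_zero_iff F p] at h0
  have h1 : a / p = 0 := Nat.eq_zero_of_dvd_of_lt h0 (Nat.div_lt_of_lt_mul ha)
  exact (Nat.div_eq_zero_iff_lt sy.prime.pos).1 h1

theorem ev_nat (sy : Sys p σ) {a : ℕ} (ha : a < p) : sy.ev a = (a : F) := by
  simp [Sys.ev, Nat.mod_eq_of_lt ha, Nat.div_eq_of_lt ha]

theorem fixed_ev (sy : Sys p σ) {a : ℕ} (ha : a < p) : σ (sy.ev a) = sy.ev a := by
  rw [ev_nat sy ha, map_natCast]

/-- Real isometries are coded by triples of real unit vectors. -/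
theorem real_code (sy : Sys p σ) {X : Matrix (Fin 3) (Fin 3) F} (hX : act σ 1 X = 1)
    (hr : ∀ i j, σ (X i j) = X i j) :
    ∃ a ∈ realUnits p, ∃ b ∈ realUnits p, ∃ c ∈ realUnits p,
      herm p a b = 0 ∧ herm p a c = 0 ∧ herm p b c = 0 ∧ sy.mtx (tr (a, b, c)) = X := by
  obtain ⟨m, hm, h00, h01, h02, h10, h11, h12, h20, h21, h22⟩ := sy.exists_mtx X
  have key : ∀ (x : ℕ) (i j : Fin 3), x < p * p → sy.ev x = X i j → x < p := fun x i j hx e =>
    code_of_fixed sy hx (by rw [e, hr])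
  have hent : ∀ i j, sy.mtx m i j = X i j := fun i j => by rw [hm]
  have l00 := key _ 0 0 h00 (by rw [← hent]; simp [Sys.mtx, Sys.vec])
  have l01 := key _ 0 1 h01 (by rw [← hent]; simp [Sys.mtx, Sys.vec])
  have l02 := key _ 0 2 h02 (by rw [← hent]; simp [Sys.mtx, Sys.vec])
  have l10 := key _ 1 0 h10 (by rw [← hent]; simp [Sys.mtx, Sys.vec])
  have l11 := key _ 1 1 h11 (by rw [← hent]; simp [Sys.mtx, Sys.vec])
  have l12 := key _ 1 2 h12 (by rw [← hent]; simp [Sys.mtx, Sys.vec])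
  have l20 := key _ 2 0 h20 (by rw [← hent]; simp [Sys.mtx, Sys.vec])
  have l21 := key _ 2 1 h21 (by rw [← hent]; simp [Sys.mtx, Sys.vec])
  have l22 := key _ 2 2 h22 (by rw [← hent]; simp [Sys.mtx, Sys.vec])
  have hd : ∀ u v : V, ∀ i j, sy.vec u = (fun k => X k i) → sy.vec v = (fun k => X k j) →
      herm p u v = if i = j then 1 else 0 := by
    intro u v i j hu hv
    refine sy.ev_inj (qa_lt sy _ _) (by split_ifs <;> nlinarith [sy.prime.two_le]) ?_
    rw [sy.ev_herm, hu, hv, ← stdH_cols, hX, Matrix.one_apply]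
    split_ifs
    · exact sy.ev_one.symm
    · exact sy.ev_zero.symm
  have c0 : sy.vec (col0 m) = fun k => X k 0 := by rw [← sy.col0_vec, hm]
  have c1 : sy.vec (col1 m) = fun k => X k 1 := by rw [← sy.col1_vec, hm]
  have c2 : sy.vec (col2 m) = fun k => X k 2 := by rw [← sy.col2_vec, hm]
  have hmem : ∀ v : V, v.1 < p → v.2.1 < p → v.2.2 < p → herm p v v = 1 → v ∈ realUnits p := by
    rintro ⟨x, y, z⟩ hx hy hz h
    refine List.mem_filter.2 ⟨List.mem_flatMap.2 ⟨x, List.mem_range.2 hx, List.mem_flatMap.2 ⟨y, List.mem_range.2 hy,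
      List.mem_map.2 ⟨z, List.mem_range.2 hz, rfl⟩⟩⟩, beq_iff_eq.2 h⟩
  refine ⟨col0 m, hmem _ l00 l10 l20 ?_, col1 m, hmem _ l01 l11 l21 ?_, col2 m, hmem _ l02 l12 l22 ?_, ?_, ?_, ?_, ?_⟩
  · simpa using hd _ _ 0 0 c0 c0
  · simpa using hd _ _ 1 1 c1 c1
  · simpa using hd _ _ 2 2 c2 c2
  · simpa using hd _ _ 0 1 c0 c1
  · simpa using hd _ _ 0 2 c0 c2
  · simpa using hd _ _ 1 2 c1 c2
  · rw [← hm]; rfl

theorem pres_real3 {σ : F ≃+* F} (sy : Sys 3 σ) {X : Matrix (Fin 3) (Fin 3) F} (hX : act σ 1 X = 1)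
    (hr : ∀ i j, σ (X i j) = X i j) : Pres sy pts3 X := by
  obtain ⟨a, ha, b, hb, c, hc, h1, h2, h3, rfl⟩ := real_code sy hX hr
  refine pres_of_check sy small3 ?_
  have h := List.all_eq_true.1 (List.all_eq_true.1 real3_ok a ha) b hb
  simp only [h1, bne_self_eq_false, Bool.false_or] at h
  have h' := List.all_eq_true.1 h c hc
  simpa [h2, h3] using h'

theorem pres_real5 {σ : F ≃+* F} (sy : Sys 5 σ) {X : Matrix (Fin 3) (Fin 3) F} (hX : act σ 1 X = 1)
    (hr : ∀ i j, σ (X i j) = X i j) : Pres sy pts5 X := by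
  have hdet : X.det ≠ 0 := fun e => by
    have h := congrArg Matrix.det hX
    rw [det_act, e, zero_mul, zero_mul, Matrix.det_one] at h
    exact zero_ne_one h
  obtain ⟨a, ha, b, hb, c, hc, h1, h2, h3, rfl⟩ := real_code sy hX hr
  have h := List.all_eq_true.1 (List.all_eq_true.1 realFactor_ok a ha) b hb
  simp only [h1, bne_self_eq_false, Bool.false_or] at h
  have h' := List.all_eq_true.1 h c hc
  simp only [h2, h3, bne_self_eq_false, Bool.false_or, List.any_eq_true, Bool.and_eq_true] at h'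
  obtain ⟨t, ht, -, hmono⟩ := h'
  have hT := pres_of_check sy small5 (List.all_eq_true.1 realT5_ok t ht)
  have hinv : sy.mtx t * sy.mtx (tr t) = 1 := by
    rw [← sy.mtx_mul, beq_iff_eq.1 (List.all_eq_true.1 realT5_orth t ht), sy.mtx_ident]
  have hdet' : (sy.mtx (mm 5 (tr t) (tr (a, b, c)))).det ≠ 0 := by
    rw [sy.mtx_mul, Matrix.det_mul]
    refine mul_ne_zero (fun e => ?_) hdet
    have h4 := congrArg Matrix.det hinv
    rw [Matrix.det_mul, e, mul_zero, Matrix.det_one] at h4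
    exact zero_ne_one h4
  have h5 := hT.mul (pres_of_isMono sy hdet' hmono)
  rwa [sy.mtx_mul, ← mul_assoc, hinv, one_mul] at h5

/-- A symmetric real Gram matrix is similar to the identity by a real change of basis. -/
theorem exists_real_congr [Fintype F] (hF : Fintype.card F = p ^ 2) (hσ : ∀ x, σ x = x ^ p) (hp : p = 3 ∨ p = 5)
    {G₀ : Matrix (Fin 3) (Fin 3) F} (hG : G₀.det ≠ 0) (hsym : G₀ᵀ = G₀) (hfix : ∀ i j, σ (G₀ i j) = G₀ i j) :
    ∃ (T : Matrix (Fin 3) (Fin 3) F) (μ : F), μ ≠ 0 ∧ σ μ = μ ∧ (∀ i j, σ (T i j) = T i j) ∧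
      Tᵀ * G₀ * T = μ • (1 : Matrix (Fin 3) (Fin 3) F) := by
  classical
  obtain ⟨sy⟩ := exists_sys hp hF hσ
  haveI := sy.char
  let F₀ : Subfield F := RingHom.eqLocusField σ.toRingHom (RingHom.id F)
  have h2 : (2 : F₀) ≠ 0 := fun e => sy.two_ne (congrArg Subtype.val e)
  haveI : Invertible (2 : F₀) := invertibleOfNonzero h2
  let A : Matrix (Fin 3) (Fin 3) F₀ := Matrix.of fun i j => ⟨G₀ i j, hfix i j⟩
  let Bf : LinearMap.BilinForm F₀ (Fin 3 → F₀) := Matrix.toBilin' A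
  have hBs : Bf.IsSymm := by
    refine ⟨fun x y => ?_⟩
    simp only [Bf, Matrix.toBilin'_apply, RingHom.id_apply]
    rw [Finset.sum_comm]
    refine Finset.sum_congr rfl fun i _ => Finset.sum_congr rfl fun j _ => ?_
    have : A j i = A i j := Subtype.ext (congrFun (congrFun hsym i) j)
    rw [this]
    ring
  obtain ⟨v, hv⟩ := LinearMap.BilinForm.exists_orthogonal_basis (B := Bf) (⟨fun x y => hBs.eq x y⟩)
  have hd3 : Module.finrank F₀ (Fin 3 → F₀) = 3 := Module.finrank_fin_fun F₀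
  let T₀ : Matrix (Fin 3) (Fin 3) F := Matrix.of fun i j => ((v (Fin.cast hd3.symm j) i : F₀) : F)
  have hT₀fix : ∀ i j, σ (T₀ i j) = T₀ i j := fun i j => (v (Fin.cast hd3.symm j) i).2
  have hoff : ∀ i j, i ≠ j → (T₀ᵀ * G₀ * T₀) i j = 0 := by
    intro i j hij
    have h := hv (fun e => hij (Fin.cast_injective _ e) : Fin.cast hd3.symm i ≠ Fin.cast hd3.symm j)
    have h' : ((Bf (v (Fin.cast hd3.symm i)) (v (Fin.cast hd3.symm j)) : F₀) : F) = 0 := congrArg Subtype.val h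
    simp only [Bf, Matrix.toBilin'_apply, A, Fin.sum_univ_three, AddMemClass.coe_add, MulMemClass.coe_mul,
      Matrix.of_apply] at h'
    simp only [Matrix.mul_apply, T₀, Fin.sum_univ_three, Matrix.transpose_apply, Matrix.of_apply]
    linear_combination h'
  have hT₀ : T₀.det ≠ 0 := by
    let M₀ : Matrix (Fin 3) (Fin 3) F₀ := Matrix.of fun i j => v (Fin.cast hd3.symm j) i
    have h1 : T₀ = (F₀.subtype : F₀ →+* F).mapMatrix M₀ := rfl
    rw [h1, ← RingHom.map_det, Ne, map_eq_zero]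
    refine ((Matrix.isUnit_iff_isUnit_det M₀).1 ?_).ne_zero
    refine Matrix.linearIndependent_cols_iff_isUnit.1 ?_
    exact (v.linearIndependent.comp _ (Fin.cast_injective hd3.symm) : _)
  set D := T₀ᵀ * G₀ * T₀ with hD
  have hDfix : ∀ i j, σ (D i j) = D i j := by
    intro i j
    simp [hD, Matrix.mul_apply, hT₀fix, hfix]
  have hDdiag : D = Matrix.diagonal fun i => D i i := by
    ext i j
    by_cases h : i = j
    · subst h; simp
    · rw [Matrix.diagonal_apply_ne _ h, hoff i j h]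
  have hDne : ∀ i, D i i ≠ 0 := by
    intro i e
    have h1 : D.det = 0 := by
      rw [hDdiag, Matrix.det_diagonal]
      exact Finset.prod_eq_zero (Finset.mem_univ i) e
    rw [hD, Matrix.det_mul, Matrix.det_mul, Matrix.det_transpose] at h1
    exact mul_ne_zero (mul_ne_zero hT₀ hG) hT₀ h1
  have hcode : ∀ i, ∃ w, w < p ∧ (w : F) = D i i ∧ w ≠ 0 := by
    intro i
    obtain ⟨w, hw, he⟩ := sy.exists_code (D i i)
    have hwp := code_of_fixed sy hw (by rw [he]; exact hDfix i i)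
    rw [ev_nat sy hwp] at he
    exact ⟨w, hwp, he, fun e => hDne i (by rw [← he, e, Nat.cast_zero])⟩
  choose w hw hwD hw0 using hcode
  have hcheck : sumSquaresCheck p = true := by
    exact hp.elim (fun e => e ▸ sumSquares3) (fun e => e ▸ sumSquares5)
  have h := List.all_eq_true.1 (List.all_eq_true.1 (List.all_eq_true.1 hcheck (w 0) (List.mem_range.2 (hw 0)))
    (w 1) (List.mem_range.2 (hw 1))) (w 2) (List.mem_range.2 (hw 2))
  simp only [beq_eq_false_iff_ne.2 (hw0 0), beq_eq_false_iff_ne.2 (hw0 1), beq_eq_false_iff_ne.2 (hw0 2),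
    Bool.false_or, List.any_eq_true, Bool.and_eq_true, beq_iff_eq] at h
  obtain ⟨a, -, haa, b, -, ⟨hab, hbb⟩, c, -, ⟨hac, hbc⟩, hcc⟩ := h
  let ev3 : V → Fin 3 → F := fun u => ![(u.1 : F), (u.2.1 : F), (u.2.2 : F)]
  have hform : ∀ u x : V, ∑ k, D k k * ev3 u k * ev3 x k = ((dform p (w 0, w 1, w 2) u x : ℕ) : F) := by
    intro u x
    rw [dform, sy.cast_mod]
    simp [Fin.sum_univ_three, ev3, ← hwD]
  let T₁ : Matrix (Fin 3) (Fin 3) F := Matrix.of fun i j => ![ev3 a, ev3 b, ev3 c] j i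
  set μ : F := ((w 0 * w 1 * w 2 % p : ℕ) : F) with hμ
  have hT₁ : T₁ᵀ * D * T₁ = μ • (1 : Matrix (Fin 3) (Fin 3) F) := by
    have hsymf : ∀ u x : V, dform p (w 0, w 1, w 2) u x = dform p (w 0, w 1, w 2) x u := fun u x => by
      simp only [dform, mul_assoc, mul_comm u.1, mul_comm u.2.1, mul_comm u.2.2]
    ext i j
    have h1 : (T₁ᵀ * D * T₁) i j = ∑ k, D k k * ![ev3 a, ev3 b, ev3 c] i k * ![ev3 a, ev3 b, ev3 c] j k := by
      rw [hDdiag]
      rw [Matrix.mul_apply]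
      simp only [Matrix.mul_diagonal, Matrix.transpose_apply, T₁, Matrix.of_apply, Matrix.diagonal_apply_eq]
      exact Finset.sum_congr rfl fun k _ => by rw [mul_comm (D k k)]
    rw [h1]
    fin_cases i <;> fin_cases j <;> simp [hform, haa, hbb, hcc, hab, hac, hbc, hμ, hsymf b a, hsymf c a, hsymf c b]
  refine ⟨T₀ * T₁, μ, ?_, ?_, ?_, ?_⟩
  · rw [hμ, sy.cast_mod, Nat.cast_mul, Nat.cast_mul, hwD, hwD, hwD]
    exact mul_ne_zero (mul_ne_zero (hDne 0) (hDne 1)) (hDne 2)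
  · rw [hμ, map_natCast]
  · intro i j
    simp only [Matrix.mul_apply, map_sum, map_mul, hT₀fix, T₁, Matrix.of_apply]
    refine Finset.sum_congr rfl fun k _ => congrArg _ ?_
    fin_cases j <;> fin_cases k <;> simp [ev3]
  · rw [Matrix.transpose_mul, ← hT₁, hD]
    simp only [mul_assoc]

/-- In `SU₃(3)` and `SU₃(5)` the subfield subgroups of index two are not maximal. -/
theorem subfield_false [Fintype F] (hp : p = 3 ∨ p = 5) (hF : Fintype.card F = p ^ 2) {H : Subgroup (GL (Fin 3) F)}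
    (hH : IsMaximalIn (SG F p) H) {F₀ : Subfield F} {P : GL (Fin 3) F} (hc : Fintype.card F = Nat.card F₀ ^ 2)
    (hrat : IsFormRationalStructure (hermForm 3 F p) F₀ 1 P) (hEq : H = subfieldSubgroup F₀ P ⊓ SG F p) : False := by
  classical
  obtain ⟨σ, hσ, hbar⟩ := exists_bar hF
  obtain ⟨sy⟩ := exists_sys hp hF hσ
  have hc0 : Nat.card F₀ = p := Nat.pow_left_injective two_ne_zero (hc.symm.trans hF)
  have hfix0 : ∀ x ∈ F₀, σ x = x := fun x hx => by rw [hσ, ← hc0]; exact (mem_iff_pow_card F₀ x).1 hx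
  set G₀ := act σ 1 (mat P) with hG₀
  have hent : ∀ i j, G₀ i j ∈ F₀ := by
    intro i j
    have h := hrat (Pi.single i 1) (Pi.single j 1)
      (fun k => by rw [Pi.single_apply]; split_ifs <;> [exact one_mem _; exact zero_mem _])
      (fun k => by rw [Pi.single_apply]; split_ifs <;> [exact one_mem _; exact zero_mem _])
    rw [one_mul, hermForm_eq_formG hσ, formG_mulVec, formG_single] at h
    exact h
  have hfixG : ∀ i j, σ (G₀ i j) = G₀ i j := fun i j => hfix0 _ (hent i j)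
  have hsym : G₀ᵀ = G₀ := by
    rw [hG₀, herm_act_one hbar.involutive]
    ext i j
    exact hfixG i j
  obtain ⟨T, μ, hμ, hμσ, hTfix, hT⟩ := exists_real_congr hF hσ hp (det_act_one_ne_zero σ P) hsym hfixG
  obtain ⟨ν, hν⟩ := hbar.norm μ⁻¹ (by rw [map_inv₀, hμσ])
  have hν0 : ν ≠ 0 := fun e => inv_ne_zero hμ (by rw [← hν, e, zero_mul])
  have hTd : T.det ≠ 0 := by
    intro e
    have h := congrArg Matrix.det hT
    rw [Matrix.det_mul, e, mul_zero, Matrix.det_smul, Matrix.det_one, mul_one] at h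
    exact pow_ne_zero _ hμ h.symm
  obtain ⟨Tu, hTu⟩ := isUnit_of_det hTd
  have hTfix' : T.map σ = T := by ext i j; exact hTfix i j
  let B : GL (Fin 3) F := sc ν hν0 * (P * Tu)
  have hBm : mat B = ν • (mat P * T) := by
    show mat (sc ν hν0 : GL (Fin 3) F) * (mat P * (Tu : Matrix (Fin 3) (Fin 3) F)) = _
    rw [mat_sc, hTu, Matrix.smul_mul, one_mul]
  have hB : act σ 1 (mat B) = 1 := by
    rw [hBm, act_sc, act_mul, ← hG₀, act, hTfix', hT, smul_smul, hν, inv_mul_cancel₀ hμ, one_smul]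
  have hHL : ∀ h ∈ H, ∃ (u : F) (Y : Matrix (Fin 3) (Fin 3) F), u ≠ 0 ∧ (∀ i j, σ (Y i j) = Y i j) ∧
      mat (B⁻¹ * h * B) = u • Y := by
    intro h hh
    rw [hEq] at hh
    obtain ⟨c, X, hX, hcX⟩ := exists_of_mem_subfieldSubgroup (Subgroup.mem_inf.1 hh).1
    have hYfix : ∀ i j, σ ((T⁻¹ * X * T) i j) = (T⁻¹ * X * T) i j := by
      have h1 : (T⁻¹).map σ = T⁻¹ := by
        refine (Matrix.inv_eq_left_inv ?_).symm
        have h2 := congrArg (fun Z : Matrix (Fin 3) (Fin 3) F => Z.map σ)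
          (Matrix.nonsing_inv_mul T (Ne.isUnit hTd))
        simp only [Matrix.map_mul, hTfix', Matrix.map_one σ (map_zero σ) (map_one σ)] at h2
        exact h2
      intro i j
      have h3 : (T⁻¹ * X * T).map σ = T⁻¹ * X * T := by
        rw [Matrix.map_mul, Matrix.map_mul, h1, hTfix', show X.map σ = X by ext a b; exact hfix0 _ (hX a b)]
      exact congrFun (congrFun h3 i) j
    have heq : mat (B⁻¹ * h * B) = c • (T⁻¹ * X * T) := by
      have e1 : B⁻¹ * h * B = Tu⁻¹ * (P⁻¹ * h * P) * Tu := by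
        have hcomm : ∀ y : GL (Fin 3) F, sc ν hν0 * y = y * sc ν hν0 := fun y => (scalar_comm (sc_mem hν0) y).eq
        show (sc ν hν0 * (P * Tu))⁻¹ * h * (sc ν hν0 * (P * Tu)) = _
        rw [_root_.mul_inv_rev, _root_.mul_inv_rev, mul_assoc (Tu⁻¹ * P⁻¹), mul_assoc (Tu⁻¹ * P⁻¹), mul_assoc (sc ν hν0)⁻¹,
          ← mul_assoc h, ← hcomm h, mul_assoc (sc ν hν0), inv_mul_cancel_left]
        group
      have e2 : mat (B⁻¹ * h * B) = mat Tu⁻¹ * mat (P⁻¹ * h * P) * mat Tu := by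
        rw [e1]; simp [mat]
      rw [e2, hcX, show mat Tu⁻¹ = T⁻¹ by rw [mat, Matrix.coe_units_inv, hTu], show mat Tu = T from hTu,
        Matrix.mul_smul, Matrix.smul_mul]
    refine ⟨c, _, fun e => ?_, hYfix, heq⟩
    rw [e, zero_smul] at heq
    have h4 := mat_inv_mul (B⁻¹ * h * B)
    rw [heq, Matrix.mul_zero] at h4
    exact zero_ne_one h4
  have hnorm : ∀ h ∈ H, ∃ (u : F) (Y : Matrix (Fin 3) (Fin 3) F), u ≠ 0 ∧ act σ 1 Y = 1 ∧
      (∀ i j, σ (Y i j) = Y i j) ∧ mat (B⁻¹ * h * B) = u • Y := by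
    intro h hh
    obtain ⟨u, Y, hu, hY, he⟩ := hHL h hh
    obtain ⟨h1, h2⟩ := conj_SG hσ hB (hH.1.le hh)
    rw [he, act_sc] at h1
    rw [he, Matrix.det_smul, Fintype.card_fin] at h2
    set lam := u * σ u with hlam
    have hl : lam ≠ 0 := mul_ne_zero hu ((map_ne_zero σ).2 hu)
    have hdY : σ Y.det = Y.det := by
      show σ.toRingHom Y.det = _
      rw [RingHom.map_det]
      congr 1
      ext i j
      exact hY i j
    have h3 : lam ^ 3 * Y.det ^ 2 = 1 := by
      have h4 := congrArg (fun Z : Matrix (Fin 3) (Fin 3) F => Z.det) h1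
      simp only [Matrix.det_smul, Fintype.card_fin, Matrix.det_one, det_act, mul_one, hdY] at h4
      linear_combination h4
    have hY0 : Y.det ≠ 0 := fun e => by rw [e] at h3; simp at h3
    set r := (lam * Y.det)⁻¹ with hr
    have hr0 : r ≠ 0 := inv_ne_zero (mul_ne_zero hl hY0)
    have hrσ : σ r = r := by rw [hr, map_inv₀, map_mul, hdY, hlam, map_mul, hbar.involutive, mul_comm (σ u)]
    have hrr : r * r = lam := by
      rw [hr, ← mul_inv]
      refine inv_eq_of_mul_eq_one_right ?_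
      linear_combination h3
    refine ⟨u / r, r • Y, div_ne_zero hu hr0, ?_, fun i j => by simp [hrσ, hY i j],
      by rw [he, smul_smul, div_mul_cancel₀ _ hr0]⟩
    rw [act_sc, hrσ, hrr]
    exact h1
  rcases hp with rfl | rfl
  · have hin := Bool.and_eq_true_iff.1 in3_ok
    obtain ⟨g, hg, hgm⟩ := exists_mem_SG sy hσ hbar.involutive hin.1
    have hgH := mem_of_le_stab sy hσ hbar.involutive out3_ok hH hB (fun h hh => by
      obtain ⟨u, Y, hu, hY1, hY2, he⟩ := hnorm h hh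
      rw [he]; exact (pres_real3 sy hY1 hY2).smul hu) hg (hgm ▸ pres_of_check sy small3 hin.2)
    obtain ⟨u, Y, hu, -, hY2, he⟩ := hnorm _ hgH
    rw [show B⁻¹ * (B * g * B⁻¹) * B = g by group, hgm] at he
    have hev : ∀ i j, σ (sy.mtx in3 1 0) * sy.mtx in3 i j = sy.mtx in3 1 0 * σ (sy.mtx in3 i j) := fun i j => by
      rw [he]; simp [hY2]; ring
    have h5 := hev 2 1
    simp only [Sys.mtx, Sys.vec, in3, Matrix.of_apply, Matrix.cons_val_zero, Matrix.cons_val_one, Matrix.cons_val] at h5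
    rw [← sy.ev_bar, ← sy.ev_bar, ← sy.ev_mul, ← sy.ev_mul] at h5
    exact absurd (sy.ev_inj (qm_lt sy _ _) (qm_lt sy _ _) h5) (by decide)
  · have hin := Bool.and_eq_true_iff.1 in5_ok
    obtain ⟨g, hg, hgm⟩ := exists_mem_SG sy hσ hbar.involutive hin.1
    have hgH := mem_of_le_stab sy hσ hbar.involutive out5_ok hH hB (fun h hh => by
      obtain ⟨u, Y, hu, hY1, hY2, he⟩ := hnorm h hh
      rw [he]; exact (pres_real5 sy hY1 hY2).smul hu) hg (hgm ▸ pres_of_check sy small5 hin.2)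
    obtain ⟨u, Y, hu, -, hY2, he⟩ := hnorm _ hgH
    rw [show B⁻¹ * (B * g * B⁻¹) * B = g by group, hgm] at he
    have hev : ∀ i j, σ (sy.mtx in5 0 0) * sy.mtx in5 i j = sy.mtx in5 0 0 * σ (sy.mtx in5 i j) := fun i j => by
      rw [he]; simp [hY2]; ring
    have h5 := hev 2 0
    simp only [Sys.mtx, Sys.vec, in5, Matrix.of_apply, Matrix.cons_val_zero, Matrix.cons_val_one, Matrix.cons_val] at h5
    rw [← sy.ev_bar, ← sy.ev_bar, ← sy.ev_mul, ← sy.ev_mul] at h5
    exact absurd (sy.ev_inj (qm_lt sy _ _) (qm_lt sy _ _) h5) (by decide)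

end Cfsg.Agent.SUSmall
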