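import Cfsg.Agent.SUSmall.Real

/-!
The normalisers of cubic subfields in `SU₃(3)` and `SU₃(5)` are not maximal.
-/

set_option autoImplicit false

namespace Cfsg.Agent.SUSmall

open Matrix Cfsg.Geo Cfsg.Agent.PrimeDim
open scoped MatrixGroups

variable {F : Type*} [Field F] {p : ℕ} {σ : F ≃+* F}

theorem not_seven (hp : p = 3 ∨ p = 5) : ∀ i, i < 6 → ¬ 7 ∣ p ^ i - 1 ∨ i = 0 := by
  intro i hi
  rcases hp with rfl | rfl <;> interval_cases i <;> norm_num

/-- A field normaliser contains a normalised unitary element of order seven. -/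
theorem exists_seven [Fintype F] (hp : p = 3 ∨ p = 5) (hF : Fintype.card F = p ^ 2) (hσ : ∀ x, σ x = x ^ p)
    (hbar : IsBar σ) {K : Subalgebra F (Matrix (Fin 3) (Fin 3) F)} (hK : IsFieldSubalgebra 3 K)
    (hadj : IsAdjointClosedFor (hermForm 3 F p) K) :
    ∃ z : GL (Fin 3) F, z ∈ SG F p ∧ orderOf z = 7 ∧
      ∀ h ∈ subalgebraNormalizer K, h * z * h⁻¹ ∈ Subgroup.zpowers z := by
  classical
  haveI : Fact (Nat.Prime 7) := ⟨by norm_num⟩
  letI : CommRing K := { (inferInstance : Ring K) with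
    mul_comm := fun a b => Subtype.ext (hK.comm a.1 a.2 b.1 b.2) }
  have hfield : IsField K :=
    { exists_pair_ne := ⟨0, 1, fun e => zero_ne_one (congrArg (fun w : K => (w : Matrix (Fin 3) (Fin 3) F) 0 0) e |>.trans (by simp))⟩
      mul_comm := mul_comm
      mul_inv_cancel := fun {a} ha => by
        obtain ⟨b, hb, hab⟩ := hK.inv a.1 a.2 fun e => ha (Subtype.ext e)
        exact ⟨⟨b, hb⟩, Subtype.ext hab⟩ }
  letI : Field K := hfield.toField
  haveI : Finite K := Subtype.finite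
  haveI : Fintype K := Fintype.ofFinite K
  have hKcard : Nat.card K = p ^ 6 := by
    rw [Module.natCard_eq_pow_finrank (K := F), hK.finrank_eq, Nat.card_eq_fintype_card, hF, ← pow_mul]
  have hdvd : 7 ∣ p ^ 6 - 1 := by rcases hp with rfl | rfl <;> norm_num
  obtain ⟨u, hu⟩ := exists_prime_orderOf_dvd_card' (G := Kˣ) 7 (by rw [Nat.card_units, hKcard]; exact hdvd)
  set z₀ : K := (u : K) with hz₀
  have hprim : IsPrimitiveRoot z₀ 7 := by
    rw [hz₀, IsPrimitiveRoot.coe_units_iff, ← hu]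
    exact IsPrimitiveRoot.orderOf u
  -- the adjoint on the field
  have hadj' : ∀ k : K, ((k : Matrix (Fin 3) (Fin 3) F)ᵀ.map σ) ∈ K := by
    intro k
    obtain ⟨k', hk', hkk⟩ := hadj k.1 k.2
    have h1 : (k : Matrix (Fin 3) (Fin 3) F)ᵀ = k'.map σ := by
      ext i j
      have h := hkk (Pi.single i 1) (Pi.single j 1)
      rw [hermForm_eq_formG hσ, Matrix.mulVec_single_one, Matrix.mulVec_single_one] at h
      simp only [formG, Matrix.one_mulVec, dotProduct, Pi.single_apply, Matrix.col_apply, apply_ite σ, map_one,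
        map_zero, mul_ite, ite_mul, mul_one, one_mul, mul_zero, zero_mul, Finset.sum_ite_eq', Finset.mem_univ,
        if_true] at h
      exact h
    have h2 : (k : Matrix (Fin 3) (Fin 3) F)ᵀ.map σ = k' := by
      rw [h1]; ext i j; exact hbar.involutive _
    rw [h2]; exact hk'
  have hmapmul : ∀ a b : Matrix (Fin 3) (Fin 3) F, (a * b)ᵀ.map σ = bᵀ.map σ * aᵀ.map σ := fun a b => by
    rw [Matrix.transpose_mul, Matrix.map_mul]
  let st : K →+* K :=
    { toFun := fun k => ⟨_, hadj' k⟩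
      map_one' := Subtype.ext (by simp [Matrix.map_one σ (map_zero σ) (map_one σ)])
      map_mul' := fun a b => Subtype.ext (by
        show ((a * b : K) : Matrix (Fin 3) (Fin 3) F)ᵀ.map σ = _
        rw [mul_comm a b, MulMemClass.coe_mul, hmapmul]; rfl)
      map_zero' := Subtype.ext (by ext i j; simp)
      map_add' := fun a b => Subtype.ext (by ext i j; simp) }
  have hst2 : ∀ k, st (st k) = k := fun k => Subtype.ext (by ext i j; simp [st, hbar.involutive])
  obtain ⟨j, hj, hzj⟩ := hprim.eq_pow_of_pow_eq_one (show (st z₀) ^ 7 = 1 by rw [← map_pow, hprim.pow_eq_one, map_one])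
  have hjj : j * j ≡ 1 [MOD 7] := by
    have h1 : z₀ ^ (j * j) = z₀ ^ 1 := by
      rw [pow_one, pow_mul, hzj, ← map_pow, hzj, hst2]
    have h2 := (hprim.isOfFinOrder (by norm_num)).pow_eq_pow_iff_modEq.1 h1
    rwa [← hprim.eq_orderOf] at h2
  have hj6 : j = 6 := by
    have hj16 : j = 1 ∨ j = 6 := by
      interval_cases j <;> simp_all [Nat.ModEq]
    refine hj16.resolve_left fun e => ?_
    rw [e, pow_one] at hzj
    let K' : Subfield K := RingHom.eqLocusField st (RingHom.id K)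
    haveI : Fintype K' := Fintype.ofFinite K'
    have hzK : z₀ ∈ K' := hzj.symm
    haveI := (exists_sys hp hF hσ).some.char
    haveI : CharP K p := (RingHom.charP_iff (algebraMap F K) (algebraMap F K).injective p).1 inferInstance
    haveI : Fact p.Prime := ⟨(exists_sys hp hF hσ).some.prime⟩
    haveI : CharP K' p := (RingHom.charP_iff K'.subtype K'.subtype.injective p).2 inferInstance
    obtain ⟨i, hpp, hi⟩ := FiniteField.card K' p
    have h7 : 7 ∣ p ^ (i : ℕ) - 1 := by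
      have hne : (⟨z₀, hzK⟩ : K') ≠ 0 := fun e => hprim.ne_zero (by norm_num) (congrArg Subtype.val e)
      have h1 : orderOf (⟨z₀, hzK⟩ : K') = 7 := by
        rw [← orderOf_injective K'.subtype.toMonoidHom K'.subtype.injective]
        exact hprim.eq_orderOf.symm
      rw [← hi, ← h1]
      exact orderOf_dvd_of_pow_eq_one (FiniteField.pow_card_sub_one_eq_one _ hne)
    have hle : (i : ℕ) ≤ 6 := by
      have h1 : Nat.card K' ≤ Nat.card K := Nat.card_le_card_of_injective _ K'.subtype.injective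
      rw [hKcard, Nat.card_eq_fintype_card, hi] at h1
      exact (Nat.pow_le_pow_iff_right hpp.one_lt).1 h1
    have h6 : (i : ℕ) = 6 := by
      by_contra hne
      exact ((not_seven hp i (by omega)).resolve_right i.ne_zero) h7
    have htop : ∀ k : K, st k = k := by
      intro k
      have hb : Function.Bijective K'.subtype := by
        refine (Fintype.bijective_iff_injective_and_card _).2 ⟨K'.subtype.injective, ?_⟩
        rw [hi, h6, ← hKcard, Nat.card_eq_fintype_card]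
      obtain ⟨⟨a, ha⟩, rfl⟩ := hb.2 k
      exact ha
    obtain ⟨a, ha⟩ := hbar.exists_moved
    have h1 := congrArg (fun k : K => (k : Matrix (Fin 3) (Fin 3) F) 0 0) (htop (algebraMap F K a))
    refine ha ?_
    simpa [st, Matrix.algebraMap_matrix_apply] using h1
  set Z : Matrix (Fin 3) (Fin 3) F := (z₀ : Matrix (Fin 3) (Fin 3) F) with hZ
  have hZ7 : Z ^ 7 = 1 := by rw [hZ, ← SubmonoidClass.coe_pow, hprim.pow_eq_one, OneMemClass.coe_one]
  have hact : act σ 1 Z = 1 := by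
    have h1 : (st z₀ * z₀ : K) = 1 := by rw [← hzj, hj6, ← pow_succ]; exact hprim.pow_eq_one
    have h2 : Zᵀ.map σ * Z = 1 := by
      have := congrArg (fun k : K => (k : Matrix (Fin 3) (Fin 3) F)) h1
      simpa [st] using this
    have h3 := congrArg (fun X : Matrix (Fin 3) (Fin 3) F => X.map σ) h2
    simp only [Matrix.map_mul, Matrix.map_one σ (map_zero σ) (map_one σ)] at h3
    rw [act, mul_one]
    refine Eq.trans ?_ h3
    congr 1
    ext i j
    exact (hbar.involutive _).symm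
  have hdet : Z.det = 1 := by
    have h1 : Z.det ^ 7 = 1 := by rw [← Matrix.det_pow, hZ7, Matrix.det_one]
    have hne : Z.det ≠ 0 := fun e => by rw [e] at h1; simp at h1
    have h2 : Z.det ^ (p ^ 2 - 1) = 1 := by rw [← hF]; exact FiniteField.pow_card_sub_one_eq_one _ hne
    have h3 : Nat.gcd 7 (p ^ 2 - 1) = 1 := by rcases hp with rfl | rfl <;> norm_num
    have h4 := pow_gcd_eq_one.2 ⟨h1, h2⟩
    rwa [h3, pow_one] at h4
  obtain ⟨z, hz⟩ := isUnit_of_det (A := Z) (by rw [hdet]; exact one_ne_zero)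
  refine ⟨z, (mem_SG_iff hσ).2 ⟨by rw [mat, hz]; exact hact, by rw [mat, hz]; exact hdet⟩, ?_, fun h hh => ?_⟩
  · rw [← orderOf_units, hz, hZ, show (z₀ : Matrix (Fin 3) (Fin 3) F) = K.val.toMonoidHom z₀ from rfl,
      orderOf_injective K.val.toMonoidHom Subtype.val_injective]
    exact hprim.eq_orderOf.symm
  · have hmem := (hh Z).1 z₀.2
    have hval : ((h * z * h⁻¹ : GL (Fin 3) F) : Matrix (Fin 3) (Fin 3) F) =
        (h : Matrix (Fin 3) (Fin 3) F) * Z * ((h⁻¹ : GL (Fin 3) F) : Matrix (Fin 3) (Fin 3) F) := by simp [hz]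
    set w : K := ⟨_, hmem⟩ with hw
    have hw7 : w ^ 7 = 1 := by
      refine Subtype.ext ?_
      rw [SubmonoidClass.coe_pow, OneMemClass.coe_one]
      show ((h : Matrix (Fin 3) (Fin 3) F) * Z * ((h⁻¹ : GL (Fin 3) F) : Matrix (Fin 3) (Fin 3) F)) ^ 7 = 1
      rw [← hval, ← Units.val_pow_eq_pow_val, conj_pow]
      rw [show z ^ 7 = 1 from Units.ext (by rw [Units.val_pow_eq_pow_val, hz, hZ7, Units.val_one])]
      simp
    obtain ⟨i, -, hi⟩ := hprim.eq_pow_of_pow_eq_one hw7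
    refine ⟨(i : ℤ), ?_⟩
    show z ^ (i : ℤ) = h * z * h⁻¹
    rw [zpow_natCast]
    refine Units.ext ?_
    rw [hval, Units.val_pow_eq_pow_val, hz, hZ, ← SubmonoidClass.coe_pow, hi]

theorem mtx_mpow (sy : Sys p σ) (g : M3) (k : ℕ) : sy.mtx (mpow p g k) = sy.mtx g ^ k := by
  induction k with
  | zero => exact sy.mtx_ident
  | succ k ih => rw [mpow, sy.mtx_mul, ih, pow_succ]

/-- Elements centralising `x` preserve the points. -/
theorem pres_centraliser (sy : Sys p σ) {S : List V} {x : M3} (hcent : centCheck p x = true)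
    (hpx : Pres sy S (sy.mtx x)) (hx0 : det3 p (cyclicMat p x (1, 0, 0)) ≠ 0)
    {C : Matrix (Fin 3) (Fin 3) F} (hC : act σ 1 C = 1) (hCd : C.det = 1)
    (hcomm : C * sy.mtx x = sy.mtx x * C) : Pres sy S C := by
  set e : V := (1, 0, 0) with he
  set X := sy.mtx x with hX
  have hiso : ∀ u w, stdH σ (C *ᵥ u) (C *ᵥ w) = stdH σ u w := fun u w => by
    show formG σ 1 _ _ = _
    rw [formG_mulVec, hC]
  obtain ⟨v, ha, hb, hc, hv⟩ := sy.exists_vec (C *ᵥ sy.vec e)
  have h1 : sy.vec (mv p x v) = C *ᵥ sy.vec (mv p x e) := by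
    rw [sy.vec_mv, sy.vec_mv, hv, Matrix.mulVec_mulVec, ← hX, ← hcomm, ← Matrix.mulVec_mulVec]
  have h2 : sy.vec (mv p x (mv p x v)) = C *ᵥ sy.vec (mv p x (mv p x e)) := by
    rw [sy.vec_mv, h1, sy.vec_mv, sy.vec_mv, sy.vec_mv, Matrix.mulVec_mulVec, ← hX, ← hcomm, ← Matrix.mulVec_mulVec]
  have hM : sy.mtx (cyclicMat p x v) = C * sy.mtx (cyclicMat p x e) := by
    ext i j
    rw [Matrix.mul_apply]
    fin_cases j
    · have := congrFun hv i
      simp only [Matrix.mulVec, dotProduct] at this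
      fin_cases i <;> simpa [cyclicMat, tr, col0, col1, col2, Sys.mtx, Sys.vec, Fin.sum_univ_three] using this
    · have := congrFun h1 i
      simp only [Matrix.mulVec, dotProduct] at this
      fin_cases i <;> simpa [cyclicMat, tr, col0, col1, col2, Sys.mtx, Sys.vec, Fin.sum_univ_three] using this
    · have := congrFun h2 i
      simp only [Matrix.mulVec, dotProduct] at this
      fin_cases i <;> simpa [cyclicMat, tr, col0, col1, col2, Sys.mtx, Sys.vec, Fin.sum_univ_three] using this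
  have e1 : herm p v v = 1 := by
    refine sy.ev_inj (qa_lt sy _ _) (one_lt_sq sy) ?_
    rw [sy.ev_herm, hv, hiso, sy.ev_one]
    simp [stdH_eq, he, Sys.vec, Fin.sum_univ_three, sy.ev_one, sy.ev_zero]
  have e2 : herm p (mv p x v) v = herm p (mv p x e) e :=
    sy.ev_inj (qa_lt sy _ _) (qa_lt sy _ _) (by rw [sy.ev_herm, sy.ev_herm, h1, hv, hiso])
  have e3 : herm p (mv p x (mv p x v)) v = herm p (mv p x (mv p x e)) e :=
    sy.ev_inj (qa_lt sy _ _) (qa_lt sy _ _) (by rw [sy.ev_herm, sy.ev_herm, h2, hv, hiso])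
  have e4 : det3 p (cyclicMat p x v) = det3 p (cyclicMat p x e) :=
    sy.ev_inj (qa_lt sy _ _) (qa_lt sy _ _) (by rw [sy.ev_det, sy.ev_det, hM, Matrix.det_mul, hCd, one_mul])
  have h := List.all_eq_true.1 (List.all_eq_true.1 (List.all_eq_true.1 hcent v.1 (List.mem_range.2 ha))
    v.2.1 (List.mem_range.2 hb)) v.2.2 (List.mem_range.2 hc)
  simp only [Prod.eta, ← he, e1, e2, e3, e4, bne_self_eq_false, Bool.false_or, List.any_eq_true, beq_iff_eq] at h
  obtain ⟨i, -, k, -, hk⟩ := h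
  have hcv : C *ᵥ sy.vec e = (sy.ev k • X ^ i) *ᵥ sy.vec e := by
    rw [← hv, ← hk, sy.vec_smul, sy.vec_mv, mtx_mpow, Matrix.smul_mulVec]
  set D := sy.ev k • X ^ i with hD
  have hDX : D * X = X * D := by rw [hD, Matrix.smul_mul, Matrix.mul_smul, (Commute.pow_self X i).eq]
  have hCD : C * sy.mtx (cyclicMat p x e) = D * sy.mtx (cyclicMat p x e) := by
    have k1 : C *ᵥ sy.vec (mv p x e) = D *ᵥ sy.vec (mv p x e) := by
      rw [sy.vec_mv, Matrix.mulVec_mulVec, ← hX, hcomm, ← Matrix.mulVec_mulVec, hcv, Matrix.mulVec_mulVec, ← hDX,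
        ← Matrix.mulVec_mulVec]
    have k2 : C *ᵥ sy.vec (mv p x (mv p x e)) = D *ᵥ sy.vec (mv p x (mv p x e)) := by
      rw [sy.vec_mv, Matrix.mulVec_mulVec, ← hX, hcomm, ← Matrix.mulVec_mulVec, k1, Matrix.mulVec_mulVec, ← hDX,
        ← Matrix.mulVec_mulVec]
    ext i' j
    rw [Matrix.mul_apply, Matrix.mul_apply]
    fin_cases j
    · have := congrFun hcv i'
      simpa [Matrix.mulVec, dotProduct, cyclicMat, tr, col0, col1, col2, Sys.mtx, Sys.vec, Fin.sum_univ_three] using this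
    · have := congrFun k1 i'
      simpa [Matrix.mulVec, dotProduct, cyclicMat, tr, col0, col1, col2, Sys.mtx, Sys.vec, Fin.sum_univ_three] using this
    · have := congrFun k2 i'
      simpa [Matrix.mulVec, dotProduct, cyclicMat, tr, col0, col1, col2, Sys.mtx, Sys.vec, Fin.sum_univ_three] using this
  have hU : IsUnit (sy.mtx (cyclicMat p x e)) :=
    isUnit_of_det (by rw [← sy.ev_det]; exact sy.ev_ne_zero (qa_lt sy _ _) hx0)
  have hCD' : C = D := hU.mul_right_cancel hCD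
  have hk0 : sy.ev k ≠ 0 := by
    intro e0
    rw [hCD', hD, e0, zero_smul, Matrix.det_zero] at hCd
    exact zero_ne_one hCd
  rw [hCD', hD]
  exact (hpx.pow i).smul hk0

/-- In `SU₃(3)` and `SU₃(5)` the normaliser of a cubic subfield is not maximal. -/
theorem field_false_aux [Fintype F] (hp : p = 3 ∨ p = 5) (hF : Fintype.card F = p ^ 2) (hσ : ∀ x, σ x = x ^ p)
    (hbar : IsBar σ) (sy : Sys p σ) {S : List V} (hS : (S.all fun v => small p v) = true) {mi mo x y : M3}
    (hin : (isSU p mi && pres p S mi) = true) (hout : (isSU p mo && escapes p S mo) = true)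
    (hcent : centCheck p x = true)
    (hdata : (isSU p x && pres p S x && isSU p y && pres p S y && mpow p x 7 == ident && x != ident &&
      mm p y x == mm p (mpow p x 2) y && det3 p (cyclicMat p x (1, 0, 0)) != 0 && powCheck p x &&
      (List.range 7).all fun k => mm p mi x != mm p (mpow p x k) mi) = true)
    (hx1 : sy.mtx x ≠ 1)
    {H : Subgroup (GL (Fin 3) F)} (hH : IsMaximalIn (SG F p) H)
    {K : Subalgebra F (Matrix (Fin 3) (Fin 3) F)} (hK : IsFieldSubalgebra 3 K)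
    (hadj : IsAdjointClosedFor (hermForm 3 F p) K) (hle : H ≤ subalgebraNormalizer K) : False := by
  classical
  haveI : Fact (Nat.Prime 7) := ⟨by norm_num⟩
  simp only [Bool.and_eq_true, beq_iff_eq, bne_iff_ne, ne_eq, List.all_eq_true, List.mem_range] at hdata
  obtain ⟨⟨⟨⟨⟨⟨⟨⟨⟨hxU, hxP⟩, hyU⟩, hyP⟩, hx7⟩, hxne⟩, hyx⟩, hdet0⟩, hpow⟩, hwit⟩ := hdata
  obtain ⟨z, hz, hzo, hzn⟩ := exists_seven hp hF hσ hbar hK hadj
  obtain ⟨gx, hgx, hgxm⟩ := exists_mem_SG sy hσ hbar.involutive hxU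
  obtain ⟨gy, hgy, hgym⟩ := exists_mem_SG sy hσ hbar.involutive hyU
  have hgxo : orderOf gx = 7 := by
    refine orderOf_eq_prime (Units.ext ?_) fun e => hx1 ?_
    · rw [Units.val_pow_eq_pow_val, show (gx : Matrix (Fin 3) (Fin 3) F) = sy.mtx x from hgxm, ← mtx_mpow, hx7,
        sy.mtx_ident, Units.val_one]
    · rw [← hgxm, e]; rfl
  -- Sylow subgroups of order seven are conjugate
  have h49 : ¬ 7 ^ 2 ∣ Nat.card (GL (Fin 3) F) := by
    rw [Matrix.card_GL_field, hF]
    rcases hp with rfl | rfl <;> norm_num [Fin.prod_univ_three]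
  have h49' : ¬ 7 ^ 2 ∣ Nat.card (SG F p) := fun h => h49 (h.trans (Subgroup.card_subgroup_dvd_card _))
  have hox : orderOf (⟨gx, hgx⟩ : SG F p) = 7 := by rw [← Subgroup.orderOf_coe]; exact hgxo
  have hoz : orderOf (⟨z, hz⟩ : SG F p) = 7 := by rw [← Subgroup.orderOf_coe]; exact hzo
  have hfac : (Nat.card (SG F p)).factorization 7 = 1 := by
    have h7 : 7 ∣ Nat.card (SG F p) := hox ▸ orderOf_dvd_natCard _
    have h1 := (Nat.Prime.dvd_iff_one_le_factorization (by norm_num) Nat.card_pos.ne').1 h7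
    have h2 : ¬ 2 ≤ (Nat.card (SG F p)).factorization 7 := fun h => h49'
      ((Nat.Prime.pow_dvd_iff_le_factorization (by norm_num) Nat.card_pos.ne').2 h)
    omega
  let P1 : Sylow 7 (SG F p) := Sylow.ofCard (Subgroup.zpowers ⟨gx, hgx⟩) (by rw [Nat.card_zpowers, hox, hfac, pow_one])
  let P2 : Sylow 7 (SG F p) := Sylow.ofCard (Subgroup.zpowers ⟨z, hz⟩) (by rw [Nat.card_zpowers, hoz, hfac, pow_one])
  obtain ⟨⟨B, hBS⟩, hB⟩ := MulAction.exists_smul_eq (SG F p) P1 P2
  have hB1 : act σ 1 (mat B) = 1 := ((mem_SG_iff hσ).1 hBS).1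
  obtain ⟨l, hl⟩ : ∃ l : ℕ, B * gx * B⁻¹ = z ^ l := by
    have h1 : (⟨B, hBS⟩ * ⟨gx, hgx⟩ * ⟨B, hBS⟩⁻¹ : SG F p) ∈ (P2 : Subgroup (SG F p)) := by
      rw [← hB]
      exact Subgroup.smul_mem_pointwise_smul _ (MulAut.conj (⟨B, hBS⟩ : SG F p)) _ (Subgroup.mem_zpowers _)
    have h2 : (⟨B, hBS⟩ * ⟨gx, hgx⟩ * ⟨B, hBS⟩⁻¹ : SG F p) ∈ Subgroup.zpowers (⟨z, hz⟩ : SG F p) := h1
    rw [← mem_powers_iff_mem_zpowers] at h2
    obtain ⟨l, hl⟩ := h2
    exact ⟨l, (congrArg Subtype.val hl).symm⟩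
  have hnorm : ∀ h ∈ H, ∃ k < 7, B⁻¹ * h * B * gx = gx ^ k * (B⁻¹ * h * B) := by
    intro h hh
    obtain ⟨i, hi⟩ := hzn h (hle hh)
    have hi' : z ^ i = h * z * h⁻¹ := hi
    have h1 : B⁻¹ * h * B * gx * (B⁻¹ * h * B)⁻¹ = B⁻¹ * (h * z * h⁻¹) ^ l * B := by
      rw [conj_pow, ← hl]; group
    have hgz : Subgroup.zpowers (B * gx * B⁻¹) = Subgroup.zpowers z := by
      refine Subgroup.eq_of_le_of_card_ge (Subgroup.zpowers_le.2 (hl ▸ Subgroup.npow_mem_zpowers z l)) ?_
      rw [Nat.card_zpowers, Nat.card_zpowers, hzo, orderOf_eq_prime (p := 7)]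
      · rw [conj_pow, ← hgxo, pow_orderOf_eq_one]; group
      · intro e
        rw [mul_inv_eq_one, mul_eq_left] at e
        rw [e, orderOf_one] at hgxo
        norm_num at hgxo
    have h2 : (h * z * h⁻¹) ^ l ∈ Subgroup.zpowers (B * gx * B⁻¹) := by
      rw [hgz, ← hi']
      exact Subgroup.pow_mem _ (Subgroup.zpow_mem_zpowers z i) l
    rw [← mem_powers_iff_mem_zpowers] at h2
    obtain ⟨k, hk⟩ := h2
    refine ⟨k % 7, Nat.mod_lt _ (by norm_num), ?_⟩
    have hk' : (B * gx * B⁻¹) ^ k = (h * z * h⁻¹) ^ l := hk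
    rw [← hk', conj_pow] at h1
    have h3 : B⁻¹ * h * B * gx * (B⁻¹ * h * B)⁻¹ = gx ^ k := by rw [h1]; group
    rw [← hgxo, pow_mod_orderOf, ← h3]
    group
  have hxS : Pres sy S (mat gx) := hgxm ▸ pres_of_check sy hS hxP
  have hyS : Pres sy S (mat gy) := hgym ▸ pres_of_check sy hS hyP
  have hyx' : gy * gx = gx ^ 2 * gy := by
    refine Units.ext ?_
    rw [Units.val_mul, Units.val_mul, Units.val_pow_eq_pow_val]
    show mat gy * mat gx = mat gx ^ 2 * mat gy
    rw [hgxm, hgym, ← sy.mtx_mul, hyx, sy.mtx_mul, mtx_mpow]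
  have hHL : ∀ h ∈ H, Pres sy S (mat (B⁻¹ * h * B)) := by
    intro h hh
    obtain ⟨k, hk7, hk⟩ := hnorm h hh
    set h' := B⁻¹ * h * B with hh'
    have hk3 : k = 1 ∨ k = 2 ∨ k = 4 := by
      have h1 := List.all_eq_true.1 hpow k (List.mem_range.2 hk7)
      simp only [Bool.or_eq_true, bne_iff_ne, beq_iff_eq] at h1
      rcases h1 with ((h1 | h1) | h1) | h1
      · exfalso
        refine h1 (sy.ev_inj (qa_lt sy _ _) (qa_lt sy _ _) ?_)
        have htr : ∀ m : M3, sy.ev (trace3 p m) = (sy.mtx m).trace := fun m => by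
          simp [trace3, sy.ev_add, Matrix.trace, Fin.sum_univ_three, Sys.mtx, Sys.vec]
        rw [htr, htr, mtx_mpow, ← hgxm]
        have h2 : h' * gx * h'⁻¹ = gx ^ k := by rw [hk]; group
        have h3 := congrArg (fun g : GL (Fin 3) F => (g : Matrix (Fin 3) (Fin 3) F).trace) h2
        rw [Units.val_mul, Matrix.trace_mul_comm, Units.val_mul, ← mul_assoc] at h3
        rw [show (h'⁻¹ : GL (Fin 3) F).1 * (h' : Matrix (Fin 3) (Fin 3) F) = 1 from mat_inv_mul h', one_mul,
          Units.val_pow_eq_pow_val] at h3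
        exact h3.symm
      · exact Or.inl h1
      · exact Or.inr (Or.inl h1)
      · exact Or.inr (Or.inr h1)
    have hdec : ∃ i, gx * (gy⁻¹ ^ i * h') = (gy⁻¹ ^ i * h') * gx := by
      clear_value h'
      have hyk : SemiconjBy gy⁻¹ (gx ^ 2) gx := by
        show gy⁻¹ * gx ^ 2 = gx * gy⁻¹
        rw [inv_mul_eq_iff_eq_mul, ← mul_assoc, hyx', mul_assoc, mul_inv_cancel, mul_one]
      have hall : ∀ (Y : GL (Fin 3) F), Y * gx ^ k = gx * Y → gx * (Y * h') = (Y * h') * gx := fun Y hY => by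
        rw [mul_assoc Y h' gx, hk, ← mul_assoc Y, hY, mul_assoc]
      rcases hk3 with rfl | rfl | rfl
      · exact ⟨0, hall _ (by rw [pow_zero, one_mul, pow_one, mul_one])⟩
      · exact ⟨1, hall _ (by rw [pow_one]; exact hyk)⟩
      · refine ⟨2, hall _ ?_⟩
        have h4 : gy⁻¹ * gx ^ 4 = gx ^ 2 * gy⁻¹ := by
          have := hyk.pow_right 2
          rw [← pow_mul] at this
          exact this
        rw [pow_two gy⁻¹, mul_assoc, h4, ← mul_assoc, show gy⁻¹ * gx ^ 2 = gx * gy⁻¹ from hyk, mul_assoc]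
    obtain ⟨i, hi⟩ := hdec
    obtain ⟨hy1, hy2⟩ := (mem_SG_iff hσ).1 hgy
    obtain ⟨h1, h2⟩ := conj_SG hσ hB1 (hH.1.le hh)
    have hcS : gy⁻¹ ^ i * h' ∈ SG F p :=
      mul_mem (pow_mem (inv_mem hgy) i) ((mem_SG_iff hσ).2 ⟨h1, h2⟩)
    obtain ⟨c1, c2⟩ := (mem_SG_iff hσ).1 hcS
    have hc : Pres sy S (mat (gy⁻¹ ^ i * h')) := by
      refine pres_centraliser sy hcent (hgxm ▸ hxS) hdet0 c1 c2 ?_
      rw [← hgxm]
      exact (congrArg Units.val hi).symm
    have he : h' = gy ^ i * (gy⁻¹ ^ i * h') := by rw [inv_pow, mul_inv_cancel_left]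
    rw [he, mat, Units.val_mul, Units.val_pow_eq_pow_val]
    exact Pres.mul (hyS.pow i) hc
  simp only [Bool.and_eq_true] at hin
  obtain ⟨g, hg, hgm⟩ := exists_mem_SG sy hσ hbar.involutive hin.1
  have hgH := mem_of_le_stab sy hσ hbar.involutive hout hH hB1 hHL hg (hgm ▸ pres_of_check sy hS hin.2)
  obtain ⟨k, hk7, hk⟩ := hnorm _ hgH
  rw [show B⁻¹ * (B * g * B⁻¹) * B = g by group] at hk
  refine hwit k hk7 ?_
  have h1 : sy.mtx (mm p mi x) = sy.mtx (mm p (mpow p x k) mi) := by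
    rw [sy.mtx_mul, sy.mtx_mul, mtx_mpow, ← hgm, ← hgxm]
    have := congrArg Units.val hk
    rw [Units.val_mul, Units.val_mul, Units.val_pow_eq_pow_val] at this
    exact this
  exact sy.mtx_inj_mm h1

end Cfsg.Agent.SUSmall
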